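import Groth.Agent.AlgSpFT.Sub
import Groth.Agent.AlgSpQC.CohDesc
import Groth.Agent.AlgSpQC.MainFP
import Groth.Agent.CohColim.AlgSpQC

/-! Morphisms out of a quasi-coherent module determined on one affine chart. -/

set_option autoImplicit false
set_option linter.style.haveILetI false
set_option linter.unusedSectionVars false
set_option backward.isDefEq.respectTransparency false
set_option backward.isDefEq.respectTransparency.types false
set_option maxHeartbeats 800000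

universe u

open CategoryTheory Limits AlgebraicGeometry Opposite TensorProduct
open Groth.Agent.AlgSpQC Groth.Agent.AlgSpFT
open scoped ChangeOfRings

noncomputable section

namespace Groth.Agent.AlgSpFP

variable {S : Scheme.{u}} {X : AlgSp.Sp S} {G P : AlgSp.ModEt X} (hG : QC G) {E₀ : AlgSp.EtOver X} (hE₀ : Aff X E₀)

/-- Two maps agreeing on restrictions of generators agree. -/
theorem eq_of_res_gen {B : AlgSp.EtOver X} (b : B ⟶ E₀) (hB : Aff X B) {T : Set (Sec G E₀)}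
    (hT : Submodule.span ((AlgSp.OEt X).obj.obj (op E₀)) T = ⊤)
    {Q : Type (u + 1)} [AddCommGroup Q] [Module ((AlgSp.OEt X).obj.obj (op B)) Q]
    {L L' : Sec G B →ₗ[(AlgSp.OEt X).obj.obj (op B)] Q} (h : ∀ t ∈ T, L (resS G b t) = L' (resS G b t))
    (hG : QC G) (hE₀ : Aff X E₀) : L = L' :=
  LinearMap.ext_on (s := resS G b '' T) (eq_top_iff.2 fun y _ => mem_span_res hG b hE₀ hB hT y) (by
    rintro _ ⟨t, ht, rfl⟩
    exact h t ht)

/-- The extension of a map of sections along a map of affine objects. -/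
def ext (φ : Sec G E₀ →ₗ[(AlgSp.OEt X).obj.obj (op E₀)] Sec P E₀) {B : AlgSp.EtOver X} (b : B ⟶ E₀) (hB : Aff X B) :
    Sec G B →ₗ[(AlgSp.OEt X).obj.obj (op B)] Sec P B :=
  haveI := hG b hE₀ hB
  (inv ((θ (AlgSp.OEt X).obj b).app G.val) ≫
    (ModuleCat.extendScalars (rh (AlgSp.OEt X).obj b)).map (ModuleCat.ofHom φ) ≫
      (θ (AlgSp.OEt X).obj b).app P.val).hom

variable (φ : Sec G E₀ →ₗ[(AlgSp.OEt X).obj.obj (op E₀)] Sec P E₀)

theorem ext_res {B : AlgSp.EtOver X} (b : B ⟶ E₀) (hB : Aff X B) (x : Sec G E₀) :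
    ext hG hE₀ φ b hB (resS G b x) = resS P b (φ x) := by
  haveI := hG b hE₀ hB
  have h1 : inv ((θ (AlgSp.OEt X).obj b).app G.val) (resS G b x) =
      (1 : (AlgSp.OEt X).obj.obj (op B)) ⊗ₜ[(AlgSp.OEt X).obj.obj (op E₀), rh (AlgSp.OEt X).obj b] x :=
    (congrArg (inv ((θ (AlgSp.OEt X).obj b).app G.val))
      ((θ_tmul (O := (AlgSp.OEt X).obj) G.val b 1 x).trans (one_smul _ _)).symm).trans
        (ConcreteCategory.congr_hom (IsIso.hom_inv_id ((θ (AlgSp.OEt X).obj b).app G.val)) _)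
  refine (congrArg (fun z => (θ (AlgSp.OEt X).obj b).app P.val
    ((ModuleCat.extendScalars (rh (AlgSp.OEt X).obj b)).map (ModuleCat.ofHom φ) z)) h1).trans ?_
  exact (θ_tmul (O := (AlgSp.OEt X).obj) P.val b 1 (φ x)).trans (one_smul _ _)

theorem res_ext {B B' : AlgSp.EtOver X} (c : B' ⟶ B) (b : B ⟶ E₀) (hB : Aff X B) (hB' : Aff X B') (y : Sec G B) :
    resS P c (ext hG hE₀ φ b hB y) = ext hG hE₀ φ (c ≫ b) hB' (resS G c y) := by
  have h := mem_span_res hG b hE₀ hB (T := (Set.univ : Set (Sec G E₀))) Submodule.span_univ y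
  induction h using Submodule.span_induction with
  | mem z hz =>
    obtain ⟨x, -, rfl⟩ := hz
    rw [ext_res, resS_comp, resS_comp, ext_res]
  | zero => rw [map_zero, resS_zero, resS_zero, map_zero]
  | add a a' _ _ ha ha' => rw [map_add, resS_add, resS_add, ha, ha', map_add]
  | smul r a _ ha => rw [map_smul, resS_smul, resS_smul, ha, map_smul]

theorem appS_ext {P' : AlgSp.ModEt X} (h : P ⟶ P') {B : AlgSp.EtOver X} (b : B ⟶ E₀) (hB : Aff X B) (y : Sec G B) :
    appS h B (ext hG hE₀ φ b hB y) = ext hG hE₀ ((appS h E₀).comp φ) b hB y := by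
  have e : (appS h B).comp (ext hG hE₀ φ b hB) = ext hG hE₀ ((appS h E₀).comp φ) b hB :=
    eq_of_res_gen b hB (T := Set.univ) Submodule.span_univ (fun x _ => by
      rw [LinearMap.comp_apply, ext_res, ext_res, appS_res]
      rfl) hG hE₀
  exact LinearMap.congr_fun e y

theorem ext_appS (f : G ⟶ P) {B : AlgSp.EtOver X} (b : B ⟶ E₀) (hB : Aff X B) :
    ext hG hE₀ (appS f E₀) b hB = appS f B :=
  eq_of_res_gen b hB (T := Set.univ) Submodule.span_univ (fun x _ => by rw [ext_res, appS_res]) hG hE₀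

theorem exists_chart_cover (hps : AlgSp.RepWith @Surjective E₀.obj.hom) {A : AlgSp.EtOver X} (hA : Aff X A) :
    ∃ (n : ℕ) (Z : Fin n → AlgSp.EtOver X) (f : ∀ i, Z i ⟶ A) (_ : ∀ i, Z i ⟶ E₀),
      (∀ i, Aff X (Z i)) ∧ Sieve.ofArrows Z f ∈ AlgSp.etTop X A := by
  haveI : IsAffine A.obj.left.left := hA
  let Q := AlgSp.EtOver.prodObj A E₀
  haveI : Surjective (E₀.property.1.snd A.obj.hom).left := hps.2 _ _ _ (E₀.property.1.isPullback A.obj.hom)
  obtain ⟨n, Z, f, hZ, hl, hs⟩ := exists_finite_cover (fun Z => Nonempty (Z ⟶ E₀)) Set.univ isCompact_univ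
    fun w (_ : w ∈ (Set.univ : Set A.obj.left.left)) => by
      obtain ⟨v, rfl⟩ := (E₀.property.1.snd A.obj.hom).left.surjective w
      obtain ⟨O, hO, hvO, -⟩ := exists_isAffineOpen_mem_and_subset (X := Q.obj.left.left) (U := ⊤) (x := v) trivial
      exact ⟨openObj Q O, openObjHom Q O ≫ AlgSp.EtOver.prodFst A E₀, aff_openObj Q hO,
        ⟨openObjHom Q O ≫ AlgSp.EtOver.prodSnd A E₀⟩, ⟨v, hvO⟩, rfl⟩
  exact ⟨n, Z, f, fun i => (hl i).some, hZ, AlgSp.ofArrows_mem_etTop _ _ fun w => by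
    obtain ⟨i, z, hz⟩ := hs w trivial
    exact ⟨i, z, hz⟩⟩

/-- Morphisms are determined on affine objects. -/
theorem hom_ext_aff {M Q : AlgSp.ModEt X} {a b : M ⟶ Q} (h : ∀ E, Aff X E → ∀ x, appS a E x = appS b E x) : a = b :=
  SheafOfModules.Hom.ext (PresheafOfModules.hom_ext fun U => ModuleCat.hom_ext (LinearMap.ext fun x =>
    ext_of_affine fun A k hA => by
      show resS Q k (appS a U.unop x) = resS Q k (appS b U.unop x)
      rw [← appS_res, ← appS_res, h A hA]))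

include hG hE₀ in
/-- A morphism vanishing on generators over a chart vanishes. -/
theorem hom_ext_chart (hps : AlgSp.RepWith @Surjective E₀.obj.hom) {T : Set (Sec G E₀)}
    (hT : Submodule.span ((AlgSp.OEt X).obj.obj (op E₀)) T = ⊤) {a b : G ⟶ P}
    (h : ∀ t ∈ T, appS a E₀ t = appS b E₀ t) : a = b := by
  refine hom_ext_aff fun A hA x => ?_
  obtain ⟨n, Z, f, l, hZ, hR⟩ := exists_chart_cover (E₀ := E₀) hps hA
  refine sep P hR fun W g hg => ?_
  obtain ⟨_, k, _, ⟨i⟩, rfl⟩ := hg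
  show resS P (k ≫ f i) (appS a A x) = resS P (k ≫ f i) (appS b A x)
  have e : appS a (Z i) = appS b (Z i) :=
    eq_of_res_gen (l i) (hZ i) hT (fun t ht => by rw [appS_res, appS_res, h t ht]) hG hE₀
  rw [← resS_comp, ← resS_comp]
  refine congrArg (resS P k) ?_
  rw [← appS_res, ← appS_res, e]

include hG hE₀ in
/-- A map of sections over a chart which agrees on the double chart comes from a morphism. -/
theorem exists_hom_of_chart (hps : AlgSp.RepWith @Surjective E₀.obj.hom)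
    (hagree : ∀ (B : AlgSp.EtOver X) (hB : Aff X B) (b b' : B ⟶ E₀),
      ext hG hE₀ φ b hB = ext hG hE₀ φ b' hB) :
    ∃ F : G ⟶ P, appS F E₀ = φ := by
  classical
  let Cond : ∀ A : AlgSp.EtOver X, Sec G A → Sec P A → Prop := fun A x y =>
    ∀ (B : AlgSp.EtOver X) (g : B ⟶ A) (b : B ⟶ E₀) (hB : Aff X B),
      resS P g y = ext hG hE₀ φ b hB (resS G g x)
  have huniq : ∀ {A : AlgSp.EtOver X}, Aff X A → ∀ {x : Sec G A} {y y' : Sec P A},
      Cond A x y → Cond A x y' → y = y' := by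
    intro A hA x y y' h h'
    obtain ⟨n, Z, f, l, hZ, hR⟩ := exists_chart_cover (E₀ := E₀) hps hA
    refine sep P hR fun W g hg => ?_
    obtain ⟨_, k, _, ⟨i⟩, rfl⟩ := hg
    show resS P (k ≫ f i) y = resS P (k ≫ f i) y'
    rw [← resS_comp, ← resS_comp, h _ (f i) (l i) (hZ i), h' _ (f i) (l i) (hZ i)]
  have hex : ∀ (A : AlgSp.EtOver X), Aff X A → ∀ x : Sec G A, ∃ y, Cond A x y := by
    intro A hA x
    obtain ⟨n, Z, f, l, hZ, hR⟩ := exists_chart_cover (E₀ := E₀) hps hA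
    let fam : ∀ i, Sec P (Z i) := fun i => ext hG hE₀ φ (l i) (hZ i) (resS G (f i) x)
    have hcomp : Presieve.Arrows.Compatible (P.val.presheaf ⋙ forget _) f fam := fun i i' W gi gi' e => by
      show resS P gi (fam i) = resS P gi' (fam i')
      refine ext_of_affine fun C k hC => ?_
      rw [resS_comp, resS_comp, res_ext hG hE₀ φ _ _ (hZ i) hC, res_ext hG hE₀ φ _ _ (hZ i') hC, resS_comp,
        resS_comp]
      simp only [Category.assoc]
      rw [e, hagree C hC (k ≫ gi ≫ l i) (k ≫ gi' ≫ l i')]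
    have hS : Presieve.IsSheafFor (P.val.presheaf ⋙ forget _) (Presieve.ofArrows Z f) :=
      (Presieve.isSheafFor_iff_generate _).2 ((isSheaf_iff_isSheaf_of_type (AlgSp.etTop X) (P.val.presheaf ⋙ forget _)).1
        ((Presheaf.isSheaf_iff_isSheaf_forget _ _ (forget _)).1 P.isSheaf) _ hR)
    obtain ⟨y, hy, -⟩ := (Presieve.isSheafFor_arrows_iff _ _).1 hS fam hcomp
    refine ⟨y, fun B g b hB => ?_⟩
    refine sep P ((AlgSp.etTop X).pullback_stable g hR) fun W h hW => ?_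
    obtain ⟨_, k, _, ⟨i⟩, e⟩ := hW
    show resS P h (resS P g y) = resS P h (ext hG hE₀ φ b hB (resS G g x))
    refine ext_of_affine fun C c hC => ?_
    rw [resS_comp, resS_comp, resS_comp, res_ext hG hE₀ φ _ _ hB hC, resS_comp]
    rw [Category.assoc, ← e, ← resS_comp P (f i) (c ≫ k) y |>.trans (congrArg (fun q => resS P q y) (Category.assoc c k (f i)))]
    rw [show resS P (f i) y = fam i from hy i, res_ext hG hE₀ φ _ _ (hZ i) hC, resS_comp]
    simp only [Category.assoc]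
    rw [hagree C hC (c ≫ k ≫ l i) (c ≫ h ≫ b)]
  choose v hv using hex
  let lin : ∀ A, Aff X A → (Sec G A →ₗ[(AlgSp.OEt X).obj.obj (op A)] Sec P A) := fun A hA =>
    { toFun := v A hA
      map_add' := fun x x' => huniq hA (hv A hA _) fun B g b hB => by
        rw [resS_add, resS_add, map_add, hv A hA x B g b hB, hv A hA x' B g b hB]
      map_smul' := fun r x => huniq hA (hv A hA _) fun B g b hB => by
        rw [RingHom.id_apply, resS_smul, resS_smul, map_smul, hv A hA x B g b hB] }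
  obtain ⟨F, hF⟩ := exists_hom_of_affine lin fun {A B} g hA hB x => huniq hB (hv B hB _) fun C c b hC => by
    show resS P c (resS P g (v A hA x)) = _
    rw [resS_comp, resS_comp, hv A hA x C (c ≫ g) b hC]
  refine ⟨F, LinearMap.ext fun x => (hF E₀ hE₀ x).trans (huniq hE₀ (hv E₀ hE₀ x) fun B g b hB => ?_)⟩
  rw [hagree B hB b g, ext_res]

include hG hE₀ in
/-- Agreement on the double chart is checked on finitely many affines and generators. -/
theorem agree_of_cover {T : Set (Sec G E₀)} (hT : Submodule.span ((AlgSp.OEt X).obj.obj (op E₀)) T = ⊤)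
    {ι : Type} (Z : ι → AlgSp.EtOver X) (hZ : ∀ a, Aff X (Z a))
    (f : ∀ a, Z a ⟶ AlgSp.EtOver.prodObj E₀ E₀) (hR : Sieve.ofArrows Z f ∈ AlgSp.etTop X (AlgSp.EtOver.prodObj E₀ E₀))
    (h : ∀ a, ∀ t ∈ T, ext hG hE₀ φ (f a ≫ AlgSp.EtOver.prodFst E₀ E₀) (hZ a)
        (resS G (f a ≫ AlgSp.EtOver.prodSnd E₀ E₀) t) = resS P (f a ≫ AlgSp.EtOver.prodSnd E₀ E₀) (φ t))
    (B : AlgSp.EtOver X) (hB : Aff X B) (b b' : B ⟶ E₀) : ext hG hE₀ φ b hB = ext hG hE₀ φ b' hB := by
  refine eq_of_res_gen b' hB hT (fun t ht => ?_) hG hE₀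
  rw [ext_res hG hE₀ φ b']
  obtain ⟨c, hc₁, hc₂⟩ : ∃ c : B ⟶ AlgSp.EtOver.prodObj E₀ E₀,
      c ≫ AlgSp.EtOver.prodFst E₀ E₀ = b ∧ c ≫ AlgSp.EtOver.prodSnd E₀ E₀ = b' :=
    ⟨(AlgSp.EtOver.prodIsLimit E₀ E₀).lift (BinaryFan.mk b b'),
      (AlgSp.EtOver.prodIsLimit E₀ E₀).fac _ ⟨WalkingPair.left⟩,
      (AlgSp.EtOver.prodIsLimit E₀ E₀).fac _ ⟨WalkingPair.right⟩⟩
  refine sep P ((AlgSp.etTop X).pullback_stable c hR) fun W w hW => ?_
  obtain ⟨_, k, _, ⟨a⟩, e⟩ := hW
  show resS P w (ext hG hE₀ φ b hB (resS G b' t)) = resS P w (resS P b' (φ t))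
  refine ext_of_affine fun C m hC => ?_
  rw [resS_comp, resS_comp, resS_comp, res_ext hG hE₀ φ _ _ hB hC, resS_comp]
  have e₁ : (m ≫ w) ≫ b = (m ≫ k) ≫ f a ≫ AlgSp.EtOver.prodFst E₀ E₀ := by
    rw [← hc₁, Category.assoc, Category.assoc, ← Category.assoc k, e, Category.assoc]
  have e₂ : (m ≫ w) ≫ b' = (m ≫ k) ≫ f a ≫ AlgSp.EtOver.prodSnd E₀ E₀ := by
    rw [← hc₂, Category.assoc, Category.assoc, ← Category.assoc k, e, Category.assoc]
  rw [e₂, ← resS_comp G _ (m ≫ k), ← resS_comp P _ (m ≫ k), ← h a t ht, res_ext hG hE₀ φ _ _ (hZ a) hC]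
  simp only [e₁]

end Groth.Agent.AlgSpFP

end
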