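import Groth.Agent.AlgSpFT.Sub
import Groth.Agent.AlgSpFP.Glue

/-! Elementary constructions with sections of modules. -/

set_option autoImplicit false
set_option linter.style.haveILetI false
set_option linter.unusedSectionVars false
set_option backward.isDefEq.respectTransparency false
set_option backward.isDefEq.respectTransparency.types false
set_option maxHeartbeats 800000

universe u

open CategoryTheory Limits AlgebraicGeometry Opposite
open Groth.Agent.AlgSpQC Groth.Agent.AlgSpFT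

noncomputable section

namespace Groth.Agent.AlgSpFP

variable {S : Scheme.{u}} {X : AlgSp.Sp S} {M N P : AlgSp.ModEt X}

theorem appS_zero_hom (E : AlgSp.EtOver X) (x : Sec M E) : appS (0 : M ⟶ N) E x = 0 := rfl

theorem appS_add_hom (f g : M ⟶ N) (E : AlgSp.EtOver X) (x : Sec M E) :
    appS (f + g) E x = appS f E x + appS g E x := rfl

theorem appS_kernel_ι (f : M ⟶ N) (E : AlgSp.EtOver X) (w : Sec (kernel f) E) :
    appS f E (appS (kernel.ι f) E w) = 0 :=
  (appS_comp _ _ E w).symm.trans ((congrArg (fun k => appS k E w) (kernel.condition f)).trans (appS_zero_hom E w))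

theorem exists_kernel_sec (f : M ⟶ N) (E : AlgSp.EtOver X) (x : Sec M E) (hx : appS f E x = 0) :
    ∃ w : Sec (kernel f) E, appS (kernel.ι f) E w = x := by
  let F : AlgSp.ModEt X ⥤ ModuleCat.{u + 1} ((AlgSp.OEt X).obj.obj (op E)) :=
    SheafOfModules.forget.{u + 1} (AlgSp.OEtRing X) ⋙ evalC (AlgSp.OEt X).obj E
  haveI : PreservesLimit (parallelPair f 0) F := by
    haveI : PreservesLimitsOfShape WalkingParallelPair (SheafOfModules.forget.{u + 1} (AlgSp.OEtRing X)) := inferInstance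
    haveI : PreservesLimit (parallelPair f 0 ⋙ SheafOfModules.forget.{u + 1} (AlgSp.OEtRing X)) (evalC (AlgSp.OEt X).obj E) :=
      inferInstanceAs (PreservesLimit _ (PresheafOfModules.evaluation (AlgSp.OEtRing X).obj (op E)))
    exact comp_preservesLimit _ _
  let K : ModuleCat ((AlgSp.OEt X).obj.obj (op E)) :=
    ModuleCat.of _ ((AlgSp.OEt X).obj.obj (op E))
  let h : K ⟶ F.obj M := ModuleCat.ofHom (LinearMap.toSpanSingleton _ _ x)
  haveI : F.PreservesZeroMorphisms := ⟨fun _ _ => rfl⟩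
  have hh : h ≫ F.map f = 0 := by
    ext
    show appS f E ((1 : (AlgSp.OEt X).obj.obj (op E)) • x) = 0
    rw [one_smul, hx]
  let hl := isLimitForkMapOfIsLimit' F (kernel.condition f) (kernelIsKernel f)
  obtain ⟨l, hl'⟩ := KernelFork.IsLimit.lift' hl h hh
  refine ⟨l (1 : (AlgSp.OEt X).obj.obj (op E)), ?_⟩
  exact (ConcreteCategory.congr_hom hl' (1 : (AlgSp.OEt X).obj.obj (op E))).trans (one_smul _ x)

/-- A pair of sections. -/
def pairS {E : AlgSp.EtOver X} (a : Sec M E) (b : Sec N E) : Sec (M ⊞ N) E :=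
  appS (biprod.inl : M ⟶ M ⊞ N) E a + appS (biprod.inr : N ⟶ M ⊞ N) E b

theorem appS_desc_pair (f : M ⟶ P) (g : N ⟶ P) {E : AlgSp.EtOver X} (a : Sec M E) (b : Sec N E) :
    appS (biprod.desc f g) E (pairS a b) = appS f E a + appS g E b := by
  rw [pairS, map_add, ← appS_comp, ← appS_comp, biprod.inl_desc, biprod.inr_desc]

theorem appS_fst_pair {E : AlgSp.EtOver X} (a : Sec M E) (b : Sec N E) :
    appS (biprod.fst : M ⊞ N ⟶ M) E (pairS a b) = a := by
  rw [pairS, map_add, ← appS_comp, ← appS_comp, biprod.inl_fst, biprod.inr_fst, appS_zero_hom, add_zero]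
  rfl

theorem appS_snd_pair {E : AlgSp.EtOver X} (a : Sec M E) (b : Sec N E) :
    appS (biprod.snd : M ⊞ N ⟶ N) E (pairS a b) = b := by
  rw [pairS, map_add, ← appS_comp, ← appS_comp, biprod.inl_snd, biprod.inr_snd, appS_zero_hom, zero_add]
  rfl

theorem pairS_fst_snd {E : AlgSp.EtOver X} (z : Sec (M ⊞ N) E) :
    pairS (appS (biprod.fst : M ⊞ N ⟶ M) E z) (appS (biprod.snd : M ⊞ N ⟶ N) E z) = z := by
  rw [pairS, ← appS_comp, ← appS_comp, ← appS_add_hom, biprod.total]
  rfl

theorem qc_biprod (hM : QC M) (hN : QC N) : QC (M ⊞ N) :=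
  qc_ext (ShortComplex.mk (biprod.inl : M ⟶ M ⊞ N) (biprod.snd : M ⊞ N ⟶ N) biprod.inl_snd)
    (ShortComplex.Splitting.ofHasBinaryBiproduct M N).shortExact hM hN

theorem finitePresentation_biprod {E : AlgSp.EtOver X}
    [Module.FinitePresentation ((AlgSp.OEt X).obj.obj (op E)) (Sec M E)]
    [Module.FinitePresentation ((AlgSp.OEt X).obj.obj (op E)) (Sec N E)] :
    Module.FinitePresentation ((AlgSp.OEt X).obj.obj (op E)) (Sec (M ⊞ N) E) :=
  Module.FinitePresentation.of_equiv
    (LinearEquiv.ofBijective ((appS (biprod.inl : M ⟶ M ⊞ N) E).coprod (appS (biprod.inr : N ⟶ M ⊞ N) E))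
      ⟨fun a b h => by
        have h1 := congrArg (appS (biprod.fst : M ⊞ N ⟶ M) E) h
        have h2 := congrArg (appS (biprod.snd : M ⊞ N ⟶ N) E) h
        exact Prod.ext ((appS_fst_pair a.1 a.2).symm.trans (h1.trans (appS_fst_pair b.1 b.2)))
          ((appS_snd_pair a.1 a.2).symm.trans (h2.trans (appS_snd_pair b.1 b.2))),
       fun z => ⟨(appS (biprod.fst : M ⊞ N ⟶ M) E z, appS (biprod.snd : M ⊞ N ⟶ N) E z), pairS_fst_snd z⟩⟩)

theorem resS_sub (M : AlgSp.ModEt X) {E E' : AlgSp.EtOver X} (g : E' ⟶ E) (x y : Sec M E) :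
    resS M g (x - y) = resS M g x - resS M g y := map_sub (M.val.presheaf.map g.op).hom x y

/-- Sections glue along covering families. -/
theorem exists_glueS {E : AlgSp.EtOver X} {ι : Type*} {Z : ι → AlgSp.EtOver X} {f : ∀ i, Z i ⟶ E}
    (hR : Sieve.ofArrows Z f ∈ AlgSp.etTop X E) (y : ∀ i, Sec M (Z i))
    (hy : ∀ i j (W : AlgSp.EtOver X) (a : W ⟶ Z i) (b : W ⟶ Z j), Aff X W → a ≫ f i = b ≫ f j →
      resS M a (y i) = resS M b (y j)) :
    ∃ x : Sec M E, ∀ i, resS M (f i) x = y i := by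
  have hcomp : Presieve.Arrows.Compatible (M.val.presheaf ⋙ forget _) f y := fun i j W a b e => by
    show resS M a (y i) = resS M b (y j)
    refine ext_of_affine fun C k hC => ?_
    rw [resS_comp, resS_comp]
    exact hy i j C (k ≫ a) (k ≫ b) hC (by rw [Category.assoc, Category.assoc, e])
  have hS : Presieve.IsSheafFor (M.val.presheaf ⋙ forget _) (Presieve.ofArrows Z f) :=
    (Presieve.isSheafFor_iff_generate _).2 ((isSheaf_iff_isSheaf_of_type (AlgSp.etTop X) (M.val.presheaf ⋙ forget _)).1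
      ((Presheaf.isSheaf_iff_isSheaf_forget _ _ (forget _)).1 M.isSheaf) _ hR)
  obtain ⟨x, hx, -⟩ := (Presieve.isSheafFor_arrows_iff _ _).1 hS y hcomp
  exact ⟨x, hx⟩

/-- Sections agreeing on a covering family agree. -/
theorem eqS_of_cover {E : AlgSp.EtOver X} {ι : Type*} {Z : ι → AlgSp.EtOver X} {f : ∀ i, Z i ⟶ E}
    (hR : Sieve.ofArrows Z f ∈ AlgSp.etTop X E) {x y : Sec M E} (h : ∀ i, resS M (f i) x = resS M (f i) y) : x = y := by
  refine sep M hR fun W g hg => ?_
  obtain ⟨_, k, _, ⟨i⟩, rfl⟩ := hg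
  show resS M (k ≫ f i) x = resS M (k ≫ f i) y
  rw [← resS_comp, ← resS_comp, h i]

end Groth.Agent.AlgSpFP

end
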