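import Groth.Agent.AlgSpFP.Chart
import Groth.Agent.ASp.QcqsPullback
import Groth.Agent.AlgSpQC.CohOpen
import Groth.Agent.AlgSpFT.Extend
import Groth.Agent.AlgSpInd.Main

/-! Attaching a module on a chart to a module along an open. -/

set_option autoImplicit false
set_option linter.style.haveILetI false
set_option linter.unusedSectionVars false
set_option backward.isDefEq.respectTransparency false
set_option backward.isDefEq.respectTransparency.types false
set_option maxHeartbeats 800000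

universe u

open CategoryTheory Limits AlgebraicGeometry Opposite
open Groth.Agent.AlgSpQC Groth.Agent.AlgSpFT

noncomputable section

namespace Groth.Agent.AlgSpFP

variable {S : Scheme.{u}} [QuasiSeparatedSpace ↥S]

theorem exists_aff_nhd {X : AlgSp.Sp S} (E : AlgSp.EtOver X) (e : E.obj.left.left) :
    ∃ (W : AlgSp.EtOver X) (k : W ⟶ E), Aff X W ∧ e ∈ Set.range k.hom.left.left := by
  obtain ⟨U, hU, heU, -⟩ := exists_isAffineOpen_mem_and_subset (X := E.obj.left.left) (U := ⊤) (x := e) trivial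
  exact ⟨openObj E U, openObjHom E U, aff_openObj E hU, ⟨e, heU⟩, rfl⟩

/-- A map bijective on all affines over an object is bijective there. -/
theorem bijective_of_affine {X : AlgSp.Sp S} {M N : AlgSp.ModEt X} (ν : M ⟶ N) {E : AlgSp.EtOver X}
    (h : ∀ (W : AlgSp.EtOver X) (_ : W ⟶ E), Aff X W → Function.Bijective (appS ν W)) :
    Function.Bijective (appS ν E) := by
  refine ⟨fun x y e => ext_of_affine fun A k hA => (h A k hA).1
    ((appS_res ν k x).trans ((congrArg (resS N k) e).trans (appS_res ν k y).symm)), fun y => ?_⟩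
  choose W k hW hk using exists_aff_nhd E
  choose a ha using fun e => (h (W e) (k e) (hW e)).2 (resS N (k e) y)
  have hR : Sieve.ofArrows W k ∈ AlgSp.etTop X E := AlgSp.ofArrows_mem_etTop _ _ fun e => ⟨e, hk e⟩
  have h1 := exists_glueS (M := M) hR a fun i j A p q hA e => (h A (p ≫ k i) hA).1 (by
    refine ((appS_res ν p (a i)).trans (congrArg (resS N p) (ha i))).trans ?_
    refine Eq.trans ?_ ((appS_res ν q (a j)).trans (congrArg (resS N q) (ha j))).symm
    rw [resS_comp, resS_comp, e])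
  obtain ⟨x, hx⟩ := h1
  refine ⟨x, eqS_of_cover hR fun e => ?_⟩
  exact ((appS_res ν (k e) x).symm.trans (congrArg (appS ν (W e)) (hx e))).trans (ha e)

/-- Gluing a preimage prescribed along a graph. -/
theorem exists_glue_graph {X : AlgSp.Sp S} {M N : AlgSp.ModEt X} (ν : N ⟶ M) {T₀ E : AlgSp.EtOver X}
    (hT₀ : IsTerminal T₀) (hA₀ : Aff X T₀) (η : T₀ ⟶ E) (L : AlgSp.EtOver X → Prop)
    (hdown : ∀ {A B : AlgSp.EtOver X}, (B ⟶ A) → L A → L B)
    (hν : ∀ A, Aff X A → L A → Function.Bijective (appS ν A))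
    (hcov : ∀ w : E.obj.left.left, ∃ (W : AlgSp.EtOver X) (k : W ⟶ E), Aff X W ∧
      (L W ∨ k = hT₀.from W ≫ η) ∧ w ∈ Set.range k.hom.left.left)
    (mr : Sec M E) (b : Sec N T₀) (hb : appS ν T₀ b = resS M η mr) :
    ∃ y : Sec N E, appS ν E y = mr ∧ resS N η y = b := by
  choose W k hW hP hk using hcov
  let ι₀ := Σ' (A : AlgSp.EtOver X) (k : A ⟶ E), Aff X A ∧ (L A ∨ k = hT₀.from A ≫ η)
  have hy : ∀ i : ι₀, ∃ a : Sec N i.1, appS ν i.1 a = resS M i.2.1 mr ∧
      (i.2.1 = hT₀.from i.1 ≫ η → a = resS N (hT₀.from i.1) b) := by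
    rintro ⟨A, q, hA, h⟩
    by_cases he : q = hT₀.from A ≫ η
    · refine ⟨resS N (hT₀.from A) b, ?_, fun _ => rfl⟩
      show appS ν A (resS N (hT₀.from A) b) = resS M q mr
      rw [appS_res, hb, resS_comp, he]
    · obtain ⟨a, ha⟩ := (hν A hA (h.resolve_right he)).2 (resS M q mr)
      exact ⟨a, ha, fun e => absurd e he⟩
  choose a ha ha' using hy
  have hR : Sieve.ofArrows (fun i : ι₀ => i.1) (fun i => i.2.1) ∈ AlgSp.etTop X E :=
    AlgSp.ofArrows_mem_etTop _ _ fun w => ⟨⟨W w, k w, hW w, hP w⟩, hk w⟩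
  have hcompat : ∀ (i j : ι₀) (A : AlgSp.EtOver X) (q : A ⟶ i.1) (r : A ⟶ j.1), Aff X A →
      q ≫ i.2.1 = r ≫ j.2.1 → resS N q (a i) = resS N r (a j) := by
    intro i j A q r hA e
    by_cases hc : L A
    · refine (hν A hA hc).1 ?_
      rw [appS_res, appS_res, ha, ha, resS_comp, resS_comp, e]
    · have hi : i.2.1 = hT₀.from i.1 ≫ η := i.2.2.2.resolve_left fun h => hc (hdown q h)
      have hj : j.2.1 = hT₀.from j.1 ≫ η := j.2.2.2.resolve_left fun h => hc (hdown r h)
      rw [ha' i hi, ha' j hj, resS_comp, resS_comp]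
      exact congrArg (fun l => resS N l b) (hT₀.hom_ext _ _)
  obtain ⟨y, hy⟩ := exists_glueS (M := N) hR a hcompat
  refine ⟨y, eqS_of_cover hR fun i => by rw [← appS_res, hy i, ha i], ?_⟩
  have hη : η = hT₀.from T₀ ≫ η := by
    rw [hT₀.hom_ext (hT₀.from T₀) (𝟙 _), Category.id_comp]
  refine ((hy ⟨T₀, η, hA₀, Or.inr hη⟩).trans (ha' ⟨T₀, η, hA₀, Or.inr hη⟩ hη)).trans ?_
  show resS N (hT₀.from T₀) b = b
  rw [hT₀.hom_ext (hT₀.from T₀) (𝟙 _)]
  exact res_id N.val b

variable (Xs : AlgSp.Space S) (O : Set (AlgSp.Points Xs.obj)) {V : Over S} {p : (AlgSp.yon S).obj V ⟶ Xs.obj}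
  (hp : AlgSp.RepWith @AlgebraicGeometry.Etale p) (hV : IsAffine V.left)

/-- The chart as an object. -/
abbrev chartObj : AlgSp.EtOver Xs.obj := (compE hp).obj (Tid V)

theorem qcqs_bc_chart (hqs : AlgSp.IsQuasiSeparatedSp Xs.obj) (hV : IsAffine V.left) (E : AlgSp.EtOver Xs.obj)
    (hE : Aff Xs.obj E) :
    CompactSpace ((AlgSp.EtOver.bc hp.1).obj E).obj.left.left ∧
      QuasiSeparatedSpace ((AlgSp.EtOver.bc hp.1).obj E).obj.left.left := by
  haveI := hV
  exact qcqs_bc (X := ⟨_, AlgSp.IsAlgSpace.yon_obj V⟩) (Y := Xs) (f := ObjectProperty.homMk p) hp.1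
    (Groth.Agent.S9920.result (X := ⟨_, AlgSp.IsAlgSpace.yon_obj V⟩) (Y := Xs) (ObjectProperty.homMk p)
      ASp.isQuasiCompactSp_yon hqs)
    (ASp.isQuasiSeparatedMor_of_sp (AlgSpInd.qs_yon V) p) E hE

/-- The part over the chart is covered by the open and the graph. -/
theorem exists_graph_nhd
    (heq : ∀ (Z : AlgSp.EtOver Xs.obj), Aff Xs.obj Z → ∀ (k₁ k₂ : Z ⟶ chartObj Xs hp),
      ∃ (n : ℕ) (U : Fin n → AlgSp.EtOver Xs.obj) (f : ∀ i, U i ⟶ Z), (∀ i, Aff Xs.obj (U i)) ∧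
        (∀ i, LO O (U i) ∨ f i ≫ k₁ = f i ≫ k₂) ∧
        ∀ e, ∃ (i : Fin n) (v : (U i).obj.left.left), (f i).hom.left.left v = e)
    (w : ((AlgSp.EtOver.bc hp.1).obj (chartObj Xs hp)).obj.left.left) :
    ∃ (W : AlgSp.EtOver ((AlgSp.yon S).obj V)) (k : W ⟶ (AlgSp.EtOver.bc hp.1).obj (chartObj Xs hp)), Aff _ W ∧
      (LO O ((compE hp).obj W) ∨ k = (isTerminalTid V).from W ≫ (compAdj hp).unit.app (Tid V)) ∧
      w ∈ Set.range k.hom.left.left := by
  obtain ⟨W₀, k₀, hW₀, w₀, rfl⟩ := exists_aff_nhd _ w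
  let k₁ : (compE hp).obj W₀ ⟶ chartObj Xs hp := (compE hp).map k₀ ≫ (compAdj hp).counit.app _
  let k₂ : (compE hp).obj W₀ ⟶ chartObj Xs hp := (compE hp).map ((isTerminalTid V).from W₀)
  obtain ⟨n, U, f, hU, hP, hs⟩ := heq ((compE hp).obj W₀) hW₀ k₁ k₂
  obtain ⟨i, u, hu⟩ := hs w₀
  let W : AlgSp.EtOver ((AlgSp.yon S).obj V) := AlgSp.EtOver.mk ((AlgSp.yon S).map (f i).hom.left ≫ W₀.obj.hom)
    (ASp.repWith_comp (P := @AlgebraicGeometry.Etale)
      ((AlgSp.repWith_yon_map_iff _ _).2 (AlgSp.EtOver.etale_left (f i))) W₀.property)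
  let f' : W ⟶ W₀ := AlgSp.EtOver.homMk (f i).hom.left rfl
  refine ⟨W, f' ≫ k₀, hU i, ?_, ⟨u, ?_⟩⟩
  · rcases hP i with h | h
    · refine Or.inl fun z => ?_
      have e : ((compE hp).obj W).obj.hom = (U i).obj.hom :=
        (Category.assoc _ _ _).trans (AlgSp.EtOver.w (f i))
      show AlgSp.Points.ofPt ((compE hp).obj W).obj.hom z ∈ O
      rw [e]
      exact h z
    · have h' : (compE hp).map f' ≫ k₁ = (compE hp).map f' ≫ k₂ :=
        AlgSp.EtOver.hom_ext _ _ (by
          have hl := congrArg (fun k : U i ⟶ chartObj Xs hp => k.hom.left) h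
          exact hl)
      refine Or.inr (((compAdj hp).homEquiv _ _).symm.injective ?_)
      rw [Adjunction.homEquiv_counit, Adjunction.homEquiv_counit, Functor.map_comp, Functor.map_comp, Category.assoc,
        Category.assoc, (compAdj hp).left_triangle_components, Category.comp_id]
      refine h'.trans ?_
      rw [← (compE hp).map_comp, (isTerminalTid V).hom_ext (f' ≫ (isTerminalTid V).from W₀)]
  · exact congrArg (fun z => k₀.hom.left.left z) hu

variable {G : AlgSp.ModEt Xs.obj} {N₁ : AlgSp.ModEt ((AlgSp.yon S).obj V)} (ν : N₁ ⟶ (restrMod hp).obj G)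

/-- The difference of the two readings on the chart. -/
def attD : (AlgSp.pushModEt hp.1).obj N₁ ⊞ G ⟶ (AlgSp.pushModEt hp.1).obj ((restrMod hp).obj G) :=
  biprod.desc ((AlgSp.pushModEt hp.1).map ν) (-(restrAdj hp).unit.app G)

theorem appS_attD (E : AlgSp.EtOver Xs.obj) (y : Sec ((AlgSp.pushModEt hp.1).obj N₁) E) (m : Sec G E) :
    fromPush hp E (appS (attD Xs hp ν) E (pairS y m)) =
      appS ν _ (fromPush hp E y) - toRestr hp _ (resS G ((compAdj hp).counit.app E) m) := by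
  rw [attD, appS_desc_pair]
  refine Eq.trans ?_ (congrArg (fun z => appS ν _ (fromPush hp E y) - z) (fromPush_unit hp G E m))
  rw [sub_eq_add_neg]
  rfl

theorem attD_eq_zero_iff (E : AlgSp.EtOver Xs.obj) (y : Sec ((AlgSp.pushModEt hp.1).obj N₁) E) (m : Sec G E) :
    appS (attD Xs hp ν) E (pairS y m) = 0 ↔
      appS ν _ (fromPush hp E y) = toRestr hp _ (resS G ((compAdj hp).counit.app E) m) := by
  rw [← sub_eq_zero (a := appS ν _ (fromPush hp E y)), ← appS_attD]
  exact ⟨fun h => congrArg (fromPush hp E) h, fun h => h⟩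

variable (hν : ∀ A, Aff _ A → LO O ((compE hp).obj A) → Function.Bijective (appS ν A))

include hν in
theorem bijective_ν_bc {E : AlgSp.EtOver Xs.obj} (hL : LO O E) :
    Function.Bijective (appS ν ((AlgSp.EtOver.bc hp.1).obj E)) :=
  bijective_of_affine ν fun W k hW => hν W hW (LO_down O ((compE hp).map k ≫ (compAdj hp).counit.app E) hL)

/-- The module glued from the chart and the open. -/
def attG : AlgSp.ModEt Xs.obj := kernel (attD Xs hp ν)

/-- Its first component. -/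
def attFst : attG Xs hp ν ⟶ (AlgSp.pushModEt hp.1).obj N₁ := kernel.ι (attD Xs hp ν) ≫ biprod.fst

/-- Its second component. -/
def attSnd : attG Xs hp ν ⟶ G := kernel.ι (attD Xs hp ν) ≫ biprod.snd

/-- The map to the module on the chart. -/
def attC : (restrMod hp).obj (attG Xs hp ν) ⟶ N₁ :=
  ((restrAdj hp).homEquiv _ _).symm (attFst Xs hp ν)

theorem att_eq (E : AlgSp.EtOver Xs.obj) (x : Sec (attG Xs hp ν) E) :
    appS ν _ (fromPush hp E (appS (attFst Xs hp ν) E x)) =
      toRestr hp _ (resS G ((compAdj hp).counit.app E) (appS (attSnd Xs hp ν) E x)) :=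
  (attD_eq_zero_iff Xs hp ν E (appS (attFst Xs hp ν) E x) (appS (attSnd Xs hp ν) E x)).1
    ((congrArg (appS (attD Xs hp ν) E) (pairS_fst_snd (appS (kernel.ι (attD Xs hp ν)) E x))).trans
      (appS_kernel_ι (attD Xs hp ν) E x))

theorem att_zero (E : AlgSp.EtOver Xs.obj) (x : Sec (attG Xs hp ν) E)
    (h1 : appS (attFst Xs hp ν) E x = 0) (h2 : appS (attSnd Xs hp ν) E x = 0) : x = 0 := by
  have hz : appS (kernel.ι (attD Xs hp ν)) E x = 0 := by
    refine (pairS_fst_snd (appS (kernel.ι (attD Xs hp ν)) E x)).symm.trans ?_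
    refine (congrArg₂ (fun a b => pairS (M := (AlgSp.pushModEt hp.1).obj N₁) (N := G) a b) h1 h2).trans ?_
    rw [pairS, map_zero, map_zero, add_zero]
  exact injective_app (kernel.ι (attD Xs hp ν)) E (hz.trans (map_zero (appS (kernel.ι (attD Xs hp ν)) E)).symm)

theorem att_exists (E : AlgSp.EtOver Xs.obj) (y : Sec N₁ ((AlgSp.EtOver.bc hp.1).obj E)) (m : Sec G E)
    (h : appS ν _ y = toRestr hp _ (resS G ((compAdj hp).counit.app E) m)) :
    ∃ x, fromPush hp E (appS (attFst Xs hp ν) E x) = y ∧ appS (attSnd Xs hp ν) E x = m := by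
  let y' : Sec ((AlgSp.pushModEt hp.1).obj N₁) E := (show ((AlgSp.pushModEt hp.1).obj N₁).val.obj (op E) from y)
  have h2 := exists_kernel_sec (attD Xs hp ν) E (pairS y' m) ((attD_eq_zero_iff Xs hp ν E y' m).2 h)
  obtain ⟨w, hw⟩ := h2
  exact ⟨w, congrArg (fromPush hp E) (((appS_comp _ _ E w).trans (congrArg (appS biprod.fst E) hw)).trans (appS_fst_pair _ _)),
    ((appS_comp _ _ E w).trans (congrArg (appS biprod.snd E) hw)).trans (appS_snd_pair _ _)⟩

theorem attC_comp : attC Xs hp ν ≫ ν = (restrMod hp).map (attSnd Xs hp ν) := by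
  apply ((restrAdj hp).homEquiv _ _).injective
  rw [Adjunction.homEquiv_naturality_right, attC, Equiv.apply_symm_apply, Adjunction.homEquiv_unit]
  refine hom_ext_affine fun E hE x => ?_
  refine (appS_comp _ _ E x).trans ?_
  refine (att_eq Xs hp ν E x).trans ?_
  show _ = appS ((AlgSp.pushModEt hp.1).map ((restrMod hp).map (attSnd Xs hp ν))) E
    (appS ((restrAdj hp).unit.app (attG Xs hp ν)) E x)
  refine Eq.trans ?_ (congrArg (appS ((restrMod hp).map (attSnd Xs hp ν)) ((AlgSp.EtOver.bc hp.1).obj E))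
    (fromPush_unit hp (attG Xs hp ν) E x)).symm
  exact (congrArg (toRestr hp _) (appS_res (attSnd Xs hp ν) ((compAdj hp).counit.app E) x)).symm

theorem appS_attC (x : Sec (attG Xs hp ν) (chartObj Xs hp)) :
    appS (attC Xs hp ν) (Tid V) (toRestr hp (Tid V) x) =
      resS N₁ ((compAdj hp).unit.app (Tid V))
        (fromPush hp (chartObj Xs hp) (appS (attFst Xs hp ν) (chartObj Xs hp) x)) := by
  have h := homEquiv_app_toRestr hp (attC Xs hp ν) (chartObj Xs hp) x
  have e : (restrAdj hp).homEquiv _ _ (attC Xs hp ν) = attFst Xs hp ν := Equiv.apply_symm_apply _ _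
  have h' : fromPush hp (chartObj Xs hp) (appS (attFst Xs hp ν) (chartObj Xs hp) x) =
      appS (attC Xs hp ν) ((AlgSp.EtOver.bc hp.1).obj (chartObj Xs hp))
        (toRestr hp ((AlgSp.EtOver.bc hp.1).obj (chartObj Xs hp))
          (resS (attG Xs hp ν) ((compAdj hp).counit.app (chartObj Xs hp)) x)) := by
    rw [← e]
    exact h
  rw [h']
  exact (congrArg (appS (attC Xs hp ν) (Tid V)) ((toRestr_res hp ((compAdj hp).unit.app (Tid V))
    (resS (attG Xs hp ν) ((compAdj hp).counit.app (chartObj Xs hp)) x)).trans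
      (congrArg (toRestr hp (Tid V)) (resS_unit_counit hp x))).symm).trans
    (appS_res (attC Xs hp ν) ((compAdj hp).unit.app (Tid V)) (toRestr hp ((AlgSp.EtOver.bc hp.1).obj (chartObj Xs hp))
      (resS (attG Xs hp ν) ((compAdj hp).counit.app (chartObj Xs hp)) x)))

include hν in
theorem bijective_att {E : AlgSp.EtOver Xs.obj} (hL : LO O E) :
    Function.Bijective (appS (attSnd Xs hp ν) E) := by
  have hb := bijective_ν_bc Xs O hp ν hν hL
  refine ⟨(injective_iff_map_eq_zero _).2 fun x hx => att_zero Xs hp ν E x ?_ hx, fun m => ?_⟩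
  · have h : appS ν _ (fromPush hp E (appS (attFst Xs hp ν) E x)) = 0 :=
      (att_eq Xs hp ν E x).trans ((congrArg (fun z => toRestr hp _ (resS G ((compAdj hp).counit.app E) z)) hx).trans
        (congrArg (toRestr hp _) (resS_zero G _)))
    exact hb.1 (h.trans (map_zero (appS ν _)).symm)
  · obtain ⟨y, hy⟩ := hb.2 (toRestr hp _ (resS G ((compAdj hp).counit.app E) m))
    have h := att_exists Xs hp ν E y m hy
    obtain ⟨x, -, hx⟩ := h
    exact ⟨x, hx⟩

include hν hV in
theorem bijective_attC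
    (heq : ∀ (Z : AlgSp.EtOver Xs.obj), Aff Xs.obj Z → ∀ (k₁ k₂ : Z ⟶ chartObj Xs hp),
      ∃ (n : ℕ) (U : Fin n → AlgSp.EtOver Xs.obj) (f : ∀ i, U i ⟶ Z), (∀ i, Aff Xs.obj (U i)) ∧
        (∀ i, LO O (U i) ∨ f i ≫ k₁ = f i ≫ k₂) ∧
        ∀ e, ∃ (i : Fin n) (v : (U i).obj.left.left), (f i).hom.left.left v = e) :
    Function.Bijective (appS (attC Xs hp ν) (Tid V)) := by
  let η := (compAdj hp).unit.app (Tid V)
  let T := chartObj Xs hp
  have hνat : ∀ x : Sec (attG Xs hp ν) T,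
      appS ν (Tid V) (appS (attC Xs hp ν) (Tid V) (toRestr hp (Tid V) x)) =
        toRestr hp (Tid V) (appS (attSnd Xs hp ν) T x) := fun x =>
    (appS_comp _ _ _ _).symm.trans (congrArg (fun k => appS k (Tid V) (toRestr hp (Tid V) x)) (attC_comp Xs hp ν))
  choose W k hW hP hk using exists_graph_nhd Xs O hp heq
  have hR : Sieve.ofArrows W k ∈ AlgSp.etTop _ ((AlgSp.EtOver.bc hp.1).obj T) :=
    AlgSp.ofArrows_mem_etTop _ _ fun w => ⟨w, hk w⟩
  refine ⟨(injective_iff_map_eq_zero _).2 fun x hx => ?_, fun b => ?_⟩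
  · obtain ⟨x, rfl⟩ : ∃ z : Sec (attG Xs hp ν) T, toRestr hp (Tid V) z = x := ⟨x, rfl⟩
    have hm : appS (attSnd Xs hp ν) T x = 0 :=
      (hνat x).symm.trans ((congrArg (appS ν (Tid V)) hx).trans (map_zero _))
    have hx' := (appS_attC Xs hp ν x).symm.trans hx
    have h1 := att_eq Xs hp ν T x
    rw [hm, resS_zero] at h1
    have ha : fromPush hp T (appS (attFst Xs hp ν) T x) = 0 := by
      refine eqS_of_cover hR fun w => ?_
      rw [resS_zero]
      rcases hP w with hL | he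
      · refine (hν (W w) (hW w) hL).1 ?_
        refine ((appS_res ν (k w) _).trans (congrArg (resS _ (k w)) h1)).trans ?_
        exact (resS_zero _ _).trans (map_zero (appS ν (W w))).symm
      · rw [he, ← resS_comp]
        exact (congrArg (resS N₁ ((isTerminalTid V).from (W w))) hx').trans (resS_zero _ _)
    exact congrArg (toRestr hp (Tid V)) (att_zero Xs hp ν T x ha hm)
  · let m : Sec G T := fromRestr hp (Tid V) (appS ν (Tid V) b)
    let mr := toRestr hp ((AlgSp.EtOver.bc hp.1).obj T) (resS G ((compAdj hp).counit.app T) m)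
    have hmr : resS ((restrMod hp).obj G) η mr = appS ν (Tid V) b :=
      (toRestr_res hp η _).trans (congrArg (toRestr hp (Tid V)) (resS_unit_counit hp m))
    have h1 := exists_glue_graph ν (isTerminalTid V) (E := (AlgSp.EtOver.bc hp.1).obj T) hV η
      (fun A => LO O ((compE hp).obj A)) (fun g h => LO_down O ((compE hp).map g) h) hν
      (exists_graph_nhd Xs O hp heq) mr b hmr.symm
    obtain ⟨y, hyν, hyη⟩ := h1
    have h2 := att_exists Xs hp ν T y m hyν
    obtain ⟨w, hw, -⟩ := h2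
    exact ⟨toRestr hp (Tid V) w, ((appS_attC Xs hp ν w).trans (congrArg (resS N₁ η) hw)).trans hyη⟩

include hν hV in
/-- A module glued from a module on a chart and a module on an open. -/
theorem exists_attach (hqs : AlgSp.IsQuasiSeparatedSp Xs.obj) (hG : QC G) (hN₁ : QC N₁)
    (heq : ∀ (Z : AlgSp.EtOver Xs.obj), Aff Xs.obj Z → ∀ (k₁ k₂ : Z ⟶ chartObj Xs hp),
      ∃ (n : ℕ) (U : Fin n → AlgSp.EtOver Xs.obj) (f : ∀ i, U i ⟶ Z), (∀ i, Aff Xs.obj (U i)) ∧
        (∀ i, LO O (U i) ∨ f i ≫ k₁ = f i ≫ k₂) ∧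
        ∀ e, ∃ (i : Fin n) (v : (U i).obj.left.left), (f i).hom.left.left v = e)
    (hFP : Module.FinitePresentation ((AlgSp.OEt ((AlgSp.yon S).obj V)).obj.obj (op (Tid V))) (Sec N₁ (Tid V))) :
    ∃ (G' : AlgSp.ModEt Xs.obj) (ψ : G' ⟶ G), QC G' ∧ (∀ E, LO O E → Function.Bijective (appS ψ E)) ∧
      Module.FinitePresentation ((AlgSp.OEt Xs.obj).obj.obj (op (chartObj Xs hp))) (Sec G' (chartObj Xs hp)) ∧
      ∀ b : Sec N₁ (Tid V), fromRestr hp (Tid V) (appS ν (Tid V) b) ∈ Set.range (appS ψ (chartObj Xs hp)) := by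
  have hQ : ∀ {M : AlgSp.ModEt ((AlgSp.yon S).obj V)}, QC M → QC ((AlgSp.pushModEt hp.1).obj M) := fun hM =>
    qc_push_qcqs hp.1 (fun E hE => (qcqs_bc_chart Xs hp hqs hV E hE).1)
      (fun E hE => (qcqs_bc_chart Xs hp hqs hV E hE).2) hM
  have hb := bijective_attC Xs O hp hV ν hν heq
  refine ⟨attG Xs hp ν, attSnd Xs hp ν,
    qc_kernel _ (qc_biprod (hQ hN₁) hG) (hQ (qc_restr hp hG)), fun E hL => bijective_att Xs O hp ν hν hL,
    ?_, fun b => ?_⟩
  · exact @Module.FinitePresentation.of_equiv ((AlgSp.OEt ((AlgSp.yon S).obj V)).obj.obj (op (Tid V)))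
      (Sec N₁ (Tid V)) (Sec ((restrMod hp).obj (attG Xs hp ν)) (Tid V)) _ _ _ _ _
      (LinearEquiv.ofBijective (appS (attC Xs hp ν) (Tid V)) hb).symm hFP
  · obtain ⟨x, rfl⟩ := hb.2 b
    refine ⟨fromRestr hp (Tid V) x, congrArg (fromRestr hp (Tid V)) ?_⟩
    exact ((appS_comp _ _ _ x).symm.trans (congrArg (fun k => appS k (Tid V) x) (attC_comp Xs hp ν))).symm

end Groth.Agent.AlgSpFP

end
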