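import Groth.Agent.AlgSpFP.Quot
import Groth.Agent.AlgSpFT.Span
import Groth.Agent.AlgSpQC.CohExtSpan
import Groth.Agent.AlgSpQC.PushFin

/-! Finitely presented modules on an affine chart with prescribed restriction to a cover of an open. -/

set_option autoImplicit false
set_option linter.style.haveILetI false
set_option linter.unusedSectionVars false
set_option backward.isDefEq.respectTransparency false
set_option backward.isDefEq.respectTransparency.types false
set_option maxHeartbeats 800000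

universe u

open CategoryTheory Limits AlgebraicGeometry Opposite
open Groth.Agent.AlgSpQC Groth.Agent.AlgSpFT

noncomputable section

namespace Groth.Agent.AlgSpFP

variable {S : Scheme.{u}} [QuasiSeparatedSpace ↥S] {X : AlgSp.Sp S}

theorem sp_top_of_qc {M : AlgSp.ModEt X} (hM : QC M) {E E' : AlgSp.EtOver X} (g : E' ⟶ E) (hE : Aff X E)
    (hE' : Aff X E') : sp M g (Set.univ : Set (Sec M E)) = ⊤ :=
  eq_top_iff.2 fun y _ => mem_span_res hM g hE hE' (Submodule.span_univ) y

theorem ker_le_sp {M N : AlgSp.ModEt X} (π : M ⟶ N) (hM : QC M) (hN : QC N) {E E' : AlgSp.EtOver X} (g : E' ⟶ E)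
    (hE : Aff X E) (hE' : Aff X E') :
    LinearMap.ker (appS π E') ≤ sp M g (LinearMap.ker (appS π E) : Set (Sec M E)) := by
  intro y hy
  obtain ⟨w, rfl⟩ := exists_kernel_sec π E' y hy
  have hw : w ∈ sp (kernel π) g (Set.univ : Set (Sec (kernel π) E)) :=
    (sp_top_of_qc (qc_kernel π hM hN) g hE hE').symm ▸ Submodule.mem_top
  have h' : appS (kernel.ι π) E' w ∈ (sp (kernel π) g (Set.univ : Set (Sec (kernel π) E))).map (appS (kernel.ι π) E') :=
    Submodule.mem_map_of_mem hw
  rw [Submodule.map_span] at h'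
  refine Submodule.span_mono ?_ h'
  rintro _ ⟨_, ⟨x, -, rfl⟩, rfl⟩
  exact ⟨appS (kernel.ι π) E x, appS_kernel_ι π E x, (appS_res (kernel.ι π) g x).symm⟩

/-- A map bijective on an affine family is bijective on affines covered by it. -/
theorem bijective_of_cover {M N : AlgSp.ModEt X} (ν : M ⟶ N) (hM : QC M) (hN : QC N) {T : AlgSp.EtOver X}
    (hT : Aff X T) {n : ℕ} {Z : Fin n → AlgSp.EtOver X} (f : ∀ i, Z i ⟶ T) (hZ : ∀ i, Aff X (Z i))
    (hb : ∀ i, Function.Bijective (appS ν (Z i))) {W : AlgSp.EtOver X} (l : W ⟶ T) (hW : Aff X W)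
    (hs : ∀ w : W.obj.left.left, ∃ (i : Fin n) (z : (Z i).obj.left.left),
      (f i).hom.left.left z = l.hom.left.left w) :
    Function.Bijective (appS ν W) := by
  choose V h h' hV e hpb hpo using fun i => (affSite X).exists_fibre l (f i) hT hW (hZ i)
  have hcov : ∀ w : W.obj.left.left, ∃ (i : Fin n) (v : (V i).obj.left.left), (h i).hom.left.left v = w := fun w => by
    obtain ⟨i, z, hz⟩ := hs w
    obtain ⟨v, hv, -⟩ := Scheme.exists_preimage_of_isPullback
      ((hpb i).map (AlgSp.EtOver.toScheme X)) w z hz.symm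
    exact ⟨i, v, hv⟩
  refine ⟨(injective_iff_map_eq_zero (appS ν W)).2 fun x hx => ?_, fun y => ?_⟩
  · refine (Submodule.mem_bot _).1 (mem_of_span_cover hM hW h hV hcov ⊥ x fun i => ?_)
    have hk : rs M (h i) x ∈ sp M (h' i) (LinearMap.ker (appS ν (Z i)) : Set (Sec M (Z i))) :=
      ker_le_sp ν hM hN (h' i) (hZ i) (hV i) (LinearMap.mem_ker.2
        ((appS_res ν (h i) x).trans ((congrArg (resS N (h i)) hx).trans (resS_zero N _))))
    rw [LinearMap.ker_eq_bot.2 (hb i).1] at hk
    have h0 : sp M (h' i) ((⊥ : Submodule ((AlgSp.OEt X).obj.obj (op (Z i))) (Sec M (Z i))) : Set (Sec M (Z i))) = ⊥ :=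
      le_antisymm (sp_le (h' i) fun z hz => by
        rw [(Submodule.mem_bot _).1 hz]
        exact resS_zero M _) bot_le
    rw [h0] at hk
    rw [(Submodule.mem_bot _).1 hk]
    exact Submodule.zero_mem _
  · refine mem_of_span_cover hN hW h hV hcov (LinearMap.range (appS ν W)) y fun i => ?_
    have hy : rs N (h i) y ∈ sp N (h' i) (Set.univ : Set (Sec N (Z i))) :=
      (sp_top_of_qc hN (h' i) (hZ i) (hV i)).symm ▸ Submodule.mem_top
    refine Submodule.span_le.2 ?_ hy
    rintro _ ⟨z, -, rfl⟩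
    obtain ⟨m, rfl⟩ := (hb i).2 z
    have hm : rs M (h' i) m ∈ sp M (h i) (Set.univ : Set (Sec M W)) :=
      (sp_top_of_qc hM (h i) hW (hV i)).symm ▸ Submodule.mem_top
    have hm' := Submodule.mem_map_of_mem (f := appS ν (V i)) hm
    rw [Submodule.map_span] at hm'
    have hrs : rs N (h' i) (appS ν (Z i) m) = appS ν (V i) (rs M (h' i) m) := (appS_res ν (h' i) m).symm
    rw [hrs]
    refine Submodule.span_mono ?_ hm'
    rintro _ ⟨_, ⟨a, -, rfl⟩, rfl⟩
    exact ⟨appS ν W a, ⟨a, rfl⟩, (appS_res ν (h i) a).symm⟩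

variable {V : Over S}

theorem fg_range_desc {M : AlgSp.ModEt ((AlgSp.yon S).obj V)} {J : Type (u + 1)} [Finite J] (k : J → Sec M (Tid V))
    {A : AlgSp.EtOver ((AlgSp.yon S).obj V)} (hA : Aff _ A) :
    (LinearMap.range (appS (M.freeHomEquiv.symm fun j => secOf (O := AlgSp.OEt _) (isTerminalTid V) M (k j)) A)).FG := by
  rw [range_desc k hA]
  exact Submodule.fg_span (Set.finite_range _)

theorem finite_sec_free (J : Type (u + 1)) [Finite J] {A : AlgSp.EtOver X} (hA : Aff X A) :
    Module.FinitePresentation ((AlgSp.OEt X).obj.obj (op A)) (Sec (AlgSp.freeModEt X J) A) := by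
  haveI := Module.Finite.of_basis (freeBasis J hA)
  haveI := Module.Free.of_basis (freeBasis J hA)
  exact Module.finitePresentation_of_projective _ _

/-- A finitely presented module on an affine chart, prescribed on the part covered by a finite family. -/
theorem exists_chart (hV : IsAffine V.left) {N : AlgSp.ModEt ((AlgSp.yon S).obj V)} (hN : QC N) {n : ℕ}
    (Z : Fin n → AlgSp.EtOver ((AlgSp.yon S).obj V)) (hZ : ∀ i, Aff _ (Z i))
    (hFP : ∀ i, Module.FinitePresentation ((AlgSp.OEt ((AlgSp.yon S).obj V)).obj.obj (op (Z i))) (Sec N (Z i)))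
    (G₀ : Finset (Sec N (Tid V))) :
    ∃ (N₁ : AlgSp.ModEt ((AlgSp.yon S).obj V)) (ν : N₁ ⟶ N), QC N₁ ∧ FPOn N₁ (fun _ => True) ∧
      (∀ g ∈ G₀, g ∈ Set.range (appS ν (Tid V))) ∧
      ∀ (W : AlgSp.EtOver ((AlgSp.yon S).obj V)), Aff _ W → (∀ w : W.obj.left.left, ∃ (i : Fin n)
        (z : (Z i).obj.left.left), ((isTerminalTid V).from (Z i)).hom.left.left z =
          ((isTerminalTid V).from W).hom.left.left w) → Function.Bijective (appS ν W) := by
  classical
  let f : ∀ i, Z i ⟶ Tid V := fun i => (isTerminalTid V).from (Z i)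
  have hG : ∀ i, ∃ F : Finset (Sec N (Tid V)), (⊤ : Submodule ((AlgSp.OEt ((AlgSp.yon S).obj V)).obj.obj (op (Z i))) (Sec N (Z i))) ≤ sp N (f i) (F : Set (Sec N (Tid V))) := by
    intro i
    haveI := hFP i
    obtain ⟨F, -, hF⟩ := exists_finset_of_fg_le (f i) (P := ⊤) (Module.Finite.fg_top (M := Sec N (Z i)))
      (le_of_eq (sp_top_of_qc hN (f i) hV (hZ i)).symm)
    exact ⟨F, hF⟩
  choose F hF using hG
  let G : Finset (Sec N (Tid V)) := G₀ ∪ Finset.univ.biUnion F
  let k : {x // x ∈ G} → Sec N (Tid V) := fun x => x.1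
  let π := N.freeHomEquiv.symm fun j => secOf (O := AlgSp.OEt _) (isTerminalTid V) N (k j)
  let L := AlgSp.freeModEt ((AlgSp.yon S).obj V) {x // x ∈ G}
  have hL : QC L := qc_free _
  have hπs : ∀ i, Function.Surjective (appS π (Z i)) := fun i => by
    rw [← LinearMap.range_eq_top, range_desc k (hZ i), eq_top_iff]
    refine (hF i).trans (Submodule.span_mono ?_)
    rintro _ ⟨x, hx, rfl⟩
    exact ⟨⟨x, Finset.mem_union_right _ (Finset.mem_biUnion.2 ⟨i, Finset.mem_univ _, hx⟩)⟩, rfl⟩
  have hK : ∀ i, ∃ F : Finset (Sec L (Tid V)), (∀ x ∈ F, x ∈ LinearMap.ker (appS π (Tid V))) ∧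
      LinearMap.ker (appS π (Z i)) ≤ sp L (f i) (F : Set (Sec L (Tid V))) := fun i => by
    haveI := finite_sec_free {x // x ∈ G} (hZ i)
    haveI := hFP i
    exact exists_finset_of_fg_le (f i) (Module.FinitePresentation.fg_ker (appS π (Z i)) (hπs i))
      (ker_le_sp π hL hN (f i) hV (hZ i))
  choose K hK0 hK using hK
  let R : Finset (Sec L (Tid V)) := Finset.univ.biUnion K
  let r : {x // x ∈ R} → Sec L (Tid V) := fun x => x.1
  let d := L.freeHomEquiv.symm fun j => secOf (O := AlgSp.OEt _) (isTerminalTid V) L (r j)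
  have hD : QC (AlgSp.freeModEt ((AlgSp.yon S).obj V) {x // x ∈ R}) := qc_free _
  have hd : d ≫ π = 0 := hom_ext_affine fun A hA y => by
    have hy : appS d A y ∈ LinearMap.range (appS d A) := ⟨y, rfl⟩
    rw [range_desc r hA] at hy
    refine (appS_comp d π A y).trans ((LinearMap.mem_ker).1 (Submodule.span_le.2 ?_ hy))
    rintro _ ⟨⟨x, hx⟩, rfl⟩
    obtain ⟨i, -, hi⟩ := Finset.mem_biUnion.1 hx
    exact LinearMap.mem_ker.2 ((appS_res π _ x).trans ((congrArg (resS N _) (hK0 i x hi)).trans (resS_zero N _)))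
  have hQ : QC (cokernel d) := qc_cokernel d hD hL
  have hπν : ∀ A (v : Sec L A), appS (cokernel.desc d π hd) A (appS (cokernel.π d) A v) = appS π A v := fun A v =>
    (appS_comp _ _ A v).symm.trans (congrArg (fun k => appS k A v) (cokernel.π_desc d π hd))
  have hb : ∀ i, Function.Bijective (appS (cokernel.desc d π hd) (Z i)) := fun i => by
    refine ⟨(injective_iff_map_eq_zero (appS (cokernel.desc d π hd) (Z i))).2 fun x hx => ?_, fun y => ?_⟩
    · obtain ⟨v, rfl⟩ := (cokernel_sections d hD hL (hZ i)).1 x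
      refine ((cokernel_sections d hD hL (hZ i)).2 v).2 ?_
      have hv : v ∈ LinearMap.range (appS d (Z i)) := by
        rw [range_desc r (hZ i)]
        refine Submodule.span_mono ?_ (hK i (LinearMap.mem_ker.2 ((hπν (Z i) v).symm.trans hx)))
        rintro _ ⟨z, hz, rfl⟩
        exact ⟨⟨z, Finset.mem_biUnion.2 ⟨i, Finset.mem_univ _, hz⟩⟩, rfl⟩
      exact hv
    · obtain ⟨v, rfl⟩ := hπs i y
      exact ⟨appS (cokernel.π d) (Z i) v, hπν (Z i) v⟩
  have hTid : Module.FinitePresentation ((AlgSp.OEt ((AlgSp.yon S).obj V)).obj.obj (op (Tid V))) (Sec (cokernel d) (Tid V)) := by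
    haveI := finite_sec_free {x // x ∈ G} (A := Tid V) hV
    obtain ⟨hs, hex⟩ := cokernel_sections d hD hL (E := Tid V) hV
    refine Module.finitePresentation_of_surjective (appS (cokernel.π d) (Tid V)) hs ?_
    rw [LinearMap.exact_iff.1 hex]
    exact fg_range_desc r hV
  refine ⟨cokernel d, cokernel.desc d π hd, hQ, fun A hA _ => ?_, fun g hg => ?_,
    fun W hW hw => bijective_of_cover _ hQ hN (T := Tid V) hV f hZ hb _ hW hw⟩
  · haveI := hTid
    exact finitePresentation_sec_map hQ ((isTerminalTid V).from A) hV hA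
  · have hg' : g ∈ LinearMap.range (appS π (Tid V)) := by
      rw [range_desc k (show Aff _ (Tid V) from hV)]
      refine Submodule.subset_span ⟨⟨g, Finset.mem_union_left _ hg⟩, ?_⟩
      show resS N ((isTerminalTid V).from (Tid V)) g = g
      rw [(isTerminalTid V).hom_ext ((isTerminalTid V).from _) (𝟙 _)]
      exact res_id N.val g
    obtain ⟨v, rfl⟩ := hg'
    exact ⟨appS (cokernel.π d) (Tid V) v, hπν _ v⟩

end Groth.Agent.AlgSpFP

end
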