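import Groth.Agent.AlgSpFP.Gen

/-! Finite type modules as colimits of finitely presented modules along epimorphisms. -/

set_option autoImplicit false
set_option linter.style.haveILetI false
set_option linter.unusedSectionVars false
set_option backward.isDefEq.respectTransparency false
set_option backward.isDefEq.respectTransparency.types false
set_option maxHeartbeats 800000

universe u

open CategoryTheory Limits AlgebraicGeometry Opposite
open Groth.Agent.AlgSpQC Groth.Agent.AlgSpFT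

noncomputable section

namespace Groth.Agent.AlgSpFP

variable {S : Scheme.{u}} [QuasiSeparatedSpace ↥S]

/-- Affines are covered by affines over a surjective affine chart. -/
theorem exists_chart_family {X : AlgSp.Sp S} {E₀ : AlgSp.EtOver X} (hps : AlgSp.RepWith @Surjective E₀.obj.hom)
    {E : AlgSp.EtOver X} (hE : Aff X E) :
    ∃ (n : ℕ) (Z : Fin n → AlgSp.EtOver X) (f : ∀ i, Z i ⟶ E) (_ : ∀ i, Z i ⟶ E₀), (∀ i, Aff X (Z i)) ∧
      ∀ w, ∃ (i : Fin n) (z : (Z i).obj.left.left), (f i).hom.left.left z = w := by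
  have hp := E₀.property
  obtain ⟨P, t, s, sq⟩ : ∃ (P : Over S) (t : P ⟶ E₀.obj.left) (s : P ⟶ E.obj.left),
      IsPullback ((AlgSp.yon S).map t) ((AlgSp.yon S).map s) E₀.obj.hom E.obj.hom := by
    obtain ⟨t, ht⟩ := (AlgSp.yon S).map_surjective (hp.1.fst E.obj.hom)
    exact ⟨_, t, hp.1.snd E.obj.hom, ht ▸ hp.1.isPullback E.obj.hom⟩
  let V : AlgSp.EtOver X := AlgSp.EtOver.mk ((AlgSp.yon S).map s ≫ E.obj.hom)
    (ASp.repWith_comp (P := @AlgebraicGeometry.Etale)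
      (ASp.repWith_yon_map (P := @AlgebraicGeometry.Etale) (g := s) (hp.2 _ _ _ sq)) E.property)
  let aV : V ⟶ E₀ := AlgSp.EtOver.homMk t sq.w
  let bV : V ⟶ E := AlgSp.EtOver.homMk s rfl
  haveI : Surjective s.left := hps.2 _ _ _ sq
  haveI := compactSpace_aff hE
  obtain ⟨n, Z, f, hZ, hl, hs⟩ := exists_finite_cover (fun Z => Nonempty (Z ⟶ E₀)) Set.univ isCompact_univ
    fun w (_ : w ∈ (Set.univ : Set E.obj.left.left)) => by
      obtain ⟨v, rfl⟩ := s.left.surjective w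
      obtain ⟨O, hO, hvO, -⟩ := exists_isAffineOpen_mem_and_subset (X := V.obj.left.left) (U := ⊤) (x := v) trivial
      exact ⟨openObj V O, openObjHom V O ≫ bV, aff_openObj V hO, ⟨openObjHom V O ≫ aV⟩, ⟨v, hvO⟩, rfl⟩
  exact ⟨n, Z, f, fun i => (hl i).some, hZ, fun w => hs w trivial⟩

variable {X : AlgSp.Sp S} {E₀ : AlgSp.EtOver X} (hE₀ : Aff X E₀) (hps : AlgSp.RepWith @Surjective E₀.obj.hom)

include hE₀ hps in
theorem affSub_le {M : AlgSp.ModEt X} (hM : QC M) (A B : AffSub M) (h : A.N E₀ hE₀ ≤ B.N E₀ hE₀) :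
    ∀ E hE, A.N E hE ≤ B.N E hE := by
  intro E hE x hx
  obtain ⟨n, Z, f, l, hZ, hs⟩ := exists_chart_family hps hE
  refine mem_of_span_cover hM hE f hZ hs _ x fun i => B.gen (f i) hE (hZ i) ?_
  refine Submodule.span_le.2 ?_ (A.gen (l i) hE₀ (hZ i) (A.mem_res (f i) hE (hZ i) x hx))
  rintro _ ⟨y, hy, rfl⟩
  exact B.mem_res (l i) hE₀ (hZ i) y (h hy)

include hE₀ hps in
theorem surjective_of_chart {M G : AlgSp.ModEt X} (φ : G ⟶ M) (hG : QC G) (hM : QC M)
    (h : Function.Surjective (appS φ E₀)) {E : AlgSp.EtOver X} (hE : Aff X E) : Function.Surjective (appS φ E) := by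
  intro x
  obtain ⟨n, Z, f, l, hZ, hs⟩ := exists_chart_family hps hE
  refine mem_range_of_cover φ hG hM hE x fun e => ?_
  obtain ⟨i, z, hz⟩ := hs e
  refine ⟨Z i, f i, hZ i, ⟨z, hz⟩, ?_⟩
  have h' : resS M (f i) x ∈ sp M (l i) (Set.univ : Set (Sec M E₀)) :=
    (sp_top_of_qc hM (l i) hE₀ (hZ i)).symm ▸ Submodule.mem_top
  refine Submodule.span_le.2 ?_ h'
  rintro _ ⟨y, -, rfl⟩
  obtain ⟨a, rfl⟩ := h y
  exact range_le_of_res φ (l i) ⟨a, rfl⟩

theorem epi_of_surjective {M G : AlgSp.ModEt X} (φ : G ⟶ M) (h : ∀ E, Aff X E → Function.Surjective (appS φ E)) :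
    Epi φ := ⟨fun a b e => hom_ext_affine fun E hE y => by
  obtain ⟨x, rfl⟩ := h E hE y
  rw [← appS_comp, ← appS_comp, e]⟩

/-- The system of quotients of an epimorphism by a directed family of subobjects of its kernel. -/
theorem exists_quotient_colimit {C : Type*} [Category C] [Abelian C] {J : Type*} [PartialOrder J]
    [IsDirected J (· ≤ ·)] [Nonempty J] {G M : C} (φ : G ⟶ M) [Epi φ] {B : J → C} (b : ∀ P, B P ⟶ G)
    (hb : ∀ P, b P ≫ φ = 0) (hle : ∀ {P Q : J}, P ≤ Q → b P ≫ cokernel.π (b Q) = 0)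
    (hkill : ∀ {Z : C} (h : G ⟶ Z), (∀ P, b P ≫ h = 0) → kernel.ι φ ≫ h = 0) :
    ∃ (D : J ⥤ C) (ι : D ⟶ (Functor.const J).obj M), Nonempty (IsColimit (Cocone.mk M ι)) ∧
      (∀ P, D.obj P = cokernel (b P)) ∧ ∀ (P Q : J) (g : P ⟶ Q), Epi (D.map g) := by
  let D : J ⥤ C :=
    { obj := fun P => cokernel (b P)
      map := fun {P Q} g => cokernel.desc (b P) (cokernel.π (b Q)) (hle (leOfHom g))
      map_id := fun P => coequalizer.hom_ext (by simp)
      map_comp := fun f g => coequalizer.hom_ext (by simp) }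
  let ι : D ⟶ (Functor.const J).obj M :=
    { app := fun P => cokernel.desc (b P) φ (hb P)
      naturality := fun P Q g => coequalizer.hom_ext (by simp [D]) }
  have hleg : ∀ (s : Cocone D) (P Q : J), cokernel.π (b P) ≫ s.ι.app P = cokernel.π (b Q) ≫ s.ι.app Q := fun s P Q => by
    obtain ⟨N, h1, h2⟩ := directed_of (· ≤ ·) P Q
    rw [← s.w (homOfLE h1), ← s.w (homOfLE h2)]
    show cokernel.π (b P) ≫ cokernel.desc (b P) _ _ ≫ _ = cokernel.π (b Q) ≫ cokernel.desc (b Q) _ _ ≫ _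
    rw [cokernel.π_desc_assoc, cokernel.π_desc_assoc]
  obtain ⟨P₀⟩ := ‹Nonempty J›
  have hk : ∀ s : Cocone D, kernel.ι φ ≫ cokernel.π (b P₀) ≫ s.ι.app P₀ = 0 := fun s => hkill _ fun P => by
    rw [hleg s P₀ P, cokernel.condition_assoc, zero_comp]
  let desc : ∀ s : Cocone D, M ⟶ s.pt := fun s => Abelian.epiDesc φ _ (hk s)
  refine ⟨D, ι, ⟨{ desc := desc, fac := fun s P => ?_, uniq := fun s m hm => ?_ }⟩, fun _ => rfl, fun P Q g => ?_⟩
  · refine coequalizer.hom_ext ?_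
    show cokernel.π (b P) ≫ cokernel.desc (b P) φ (hb P) ≫ desc s = cokernel.π (b P) ≫ s.ι.app P
    rw [cokernel.π_desc_assoc, Abelian.comp_epiDesc]
    exact hleg s P₀ P
  · rw [← cancel_epi φ, Abelian.comp_epiDesc, ← hm P₀]
    show φ ≫ m = cokernel.π (b P₀) ≫ cokernel.desc (b P₀) φ (hb P₀) ≫ m
    rw [cokernel.π_desc_assoc]
  · exact epi_of_epi_fac (f := cokernel.π (b P)) (cokernel.π_desc (b P) (cokernel.π (b Q)) (hle (leOfHom g)))

theorem fp_quot {M G : AlgSp.ModEt X} (b : M ⟶ G) (hM : QC M) (hG : QC G) (hFP : FPOn G fun _ => True)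
    (hfin : ∀ E, Aff X E → Module.Finite ((AlgSp.OEt X).obj.obj (op E)) (Sec M E)) :
    (cokernel b).IsFinitePresentation := by
  refine (isFinitePresentation_iff (qc_cokernel b hM hG)).2 fun E hE => ?_
  haveI := hFP E hE trivial
  haveI := hfin E hE
  obtain ⟨hs, hex'⟩ := cokernel_sections b hM hG hE
  refine Module.finitePresentation_of_surjective (appS (cokernel.π b) E) hs ?_
  rw [LinearMap.exact_iff.1 hex', LinearMap.range_eq_map]
  exact Module.Finite.fg_top.map _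

/-- Finite type submodules, recorded on a chart. -/
abbrev FGSub (K : AlgSp.ModEt X) : Type (u + 1) :=
  {P : Submodule ((AlgSp.OEt X).obj.obj (op E₀)) (Sec K E₀) //
    ∃ A : AffSub K, (∀ E hE, (A.N E hE).FG) ∧ A.N E₀ hE₀ = P}

include hE₀ hps in
/-- The quotient system of a surjection from a finitely presented module. -/
theorem exists_quotient_system {M G : AlgSp.ModEt X} (φ : G ⟶ M) (hG : QC G) (hM : QC M)
    (hFP : FPOn G fun _ => True) (hφ : ∀ E, Aff X E → Function.Surjective (appS φ E))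
    (hext : ∀ R : List (Σ E : {E : AlgSp.EtOver X // Aff X E}, Sec (kernel φ) E.1), ∃ A : AffSub (kernel φ),
      (∀ E hE, (A.N E hE).FG) ∧ ∀ r ∈ R, r.2 ∈ A.N r.1.1 r.1.2) :
    ∃ (J : Type (u + 1)) (_ : PartialOrder J) (_ : IsDirected J (· ≤ ·)) (_ : Nonempty J)
      (D : J ⥤ AlgSp.ModEt X) (ι : D ⟶ (Functor.const J).obj M),
      Nonempty (IsColimit (Cocone.mk M ι)) ∧ (∀ j, (D.obj j).IsFinitePresentation) ∧
        ∀ (j j' : J) (h : j ⟶ j'), Epi (D.map h) := by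
  classical
  let K := kernel φ
  have hK : QC K := qc_kernel φ hG hM
  let J := FGSub hE₀ K
  let A : J → AffSub K := fun P => P.2.choose
  have hA : ∀ (P : J) E hE, ((A P).N E hE).FG := fun P => P.2.choose_spec.1
  have hA₀ : ∀ P : J, (A P).N E₀ hE₀ = P.1 := fun P => P.2.choose_spec.2
  let b : ∀ P : J, (A P).toMod hK ⟶ G := fun P => (A P).ι hK ≫ kernel.ι φ
  have hb : ∀ P, b P ≫ φ = 0 := fun P => by
    rw [Category.assoc, kernel.condition, comp_zero]
  have hle : ∀ {P Q : J}, P ≤ Q → b P ≫ cokernel.π (b Q) = 0 := fun {P Q} h => by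
    obtain ⟨k, hk⟩ := exists_hom_toMod hK (A Q) ((A P).ι hK) fun E hE y =>
      affSub_le hE₀ hps hK (A P) (A Q) (((hA₀ P).le.trans h).trans (hA₀ Q).ge) E hE
        (((A P).mem_iff hK hE _).1 y.2)
    show ((A P).ι hK ≫ kernel.ι φ) ≫ cokernel.π (b Q) = 0
    rw [← hk, Category.assoc, Category.assoc, ← Category.assoc ((A Q).ι hK)]
    show k ≫ b Q ≫ cokernel.π (b Q) = 0
    rw [cokernel.condition, comp_zero]
  have hex : ∀ R : List (Σ E : {E : AlgSp.EtOver X // Aff X E}, Sec K E.1),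
      ∃ P : J, ∀ r ∈ R, r.2 ∈ (A P).N r.1.1 r.1.2 := fun R => by
    obtain ⟨B, hB, hBm⟩ := hext R
    let P : J := ⟨B.N E₀ hE₀, B, hB, rfl⟩
    exact ⟨P, fun r hr => affSub_le hE₀ hps hK B (A P) (hA₀ P).ge r.1.1 r.1.2 (hBm r hr)⟩
  haveI hne : Nonempty J := ⟨(hex []).choose⟩
  haveI hdir : IsDirected J (· ≤ ·) := ⟨fun P Q => by
    obtain ⟨s, hs⟩ := hA P E₀ hE₀
    obtain ⟨t, ht⟩ := hA Q E₀ hE₀
    obtain ⟨N, hN⟩ := hex ((s ∪ t).toList.map fun x => ⟨⟨E₀, hE₀⟩, x⟩)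
    have hm : ∀ x ∈ s ∪ t, x ∈ (A N).N E₀ hE₀ := fun x hx =>
      hN ⟨⟨E₀, hE₀⟩, x⟩ (List.mem_map.2 ⟨x, Finset.mem_toList.2 hx, rfl⟩)
    refine ⟨N, ?_, ?_⟩
    · show P.1 ≤ N.1
      rw [← hA₀ P, ← hA₀ N, ← hs]
      exact Submodule.span_le.2 fun x hx => hm x (Finset.mem_union_left _ hx)
    · show Q.1 ≤ N.1
      rw [← hA₀ Q, ← hA₀ N, ← ht]
      exact Submodule.span_le.2 fun x hx => hm x (Finset.mem_union_right _ hx)⟩
  haveI : Epi φ := epi_of_surjective φ hφ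
  have hkill : ∀ {Z : AlgSp.ModEt X} (h : G ⟶ Z), (∀ P, b P ≫ h = 0) → kernel.ι φ ≫ h = 0 := fun {Z} h hh =>
    hom_ext_affine fun E hE x => by
      obtain ⟨P, hP⟩ := hex [⟨⟨E, hE⟩, x⟩]
      let y : Sec ((A P).toMod hK) E := ⟨x, ((A P).mem_iff hK hE x).2 (hP _ (List.mem_singleton_self _))⟩
      have e := congrArg (fun k => appS k E y) (hh P)
      exact (appS_comp _ _ E x).trans ((appS_comp (b P) h E y).symm.trans e)
  have hc := exists_quotient_colimit (J := J) φ b hb hle hkill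
  obtain ⟨D, ι, hcol, hD, hepi⟩ := hc
  exact ⟨J, inferInstance, hdir, hne, D, ι, hcol, fun P => (hD P).symm ▸
    fp_quot (b P) ((A P).qc hK) hG hFP (fun E hE => finite_toMod hK (A P) hE (hA P E hE)), hepi⟩

theorem exists_ext_kernel {Xs : AlgSp.Space S} (hqc : AlgSp.IsQuasiCompactSp Xs.obj)
    (hqs : AlgSp.IsQuasiSeparatedSp Xs.obj) {K : AlgSp.ModEt Xs.obj} (hK : QC K) (R : List (Req K)) :
    ∃ A : AffSub K, (∀ E hE, (A.N E hE).FG) ∧ ∀ r ∈ R, r.2 ∈ A.N r.1.1 r.1.2 := by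
  obtain ⟨A, hA, -, hm⟩ := exists_extension Xs hqc hqs hK isOpen_empty isCompact_empty (emptyPSub hK)
    (fun _ _ _ => Submodule.fg_bot) R (fun r _ => mem_emptyPSub_ext hK r.2)
  exact ⟨A, hA, hm⟩

end Groth.Agent.AlgSpFP

end
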