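import Groth.Agent.AlgSpFP.Epi
import Mathlib.CategoryTheory.InducedCategory

/-! Quasi-coherent modules as filtered colimits of finitely presented modules. -/

set_option autoImplicit false
set_option linter.style.haveILetI false
set_option linter.unusedSectionVars false
set_option backward.isDefEq.respectTransparency false
set_option backward.isDefEq.respectTransparency.types false
set_option maxHeartbeats 4000000

universe u

open CategoryTheory Limits AlgebraicGeometry Opposite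
open Groth.Agent.AlgSpQC Groth.Agent.AlgSpFT

noncomputable section

namespace Groth.Agent.AlgSpFP

variable {S : Scheme.{u}} [QuasiSeparatedSpace ↥S] {Xs : AlgSp.Space S} {M : AlgSp.ModEt Xs.obj}

/-- A finitely presented module over `M`. -/
structure FPo (M : AlgSp.ModEt Xs.obj) : Type (u + 2) where
  /-- the module -/
  G : AlgSp.ModEt Xs.obj
  /-- the map -/
  φ : G ⟶ M
  qc : QC G
  fp : G.IsFinitePresentation

/-- As an object over `M`. -/
def FPo.over (a : FPo M) : Over M := Over.mk a.φ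

theorem fpOn (a : FPo M) : FPOn a.G fun _ => True := fun E hE _ =>
  (isFinitePresentation_iff a.qc).1 a.fp E hE

/-- The sum. -/
def FPo.sum (a b : FPo M) : FPo M where
  G := a.G ⊞ b.G
  φ := biprod.desc a.φ b.φ
  qc := qc_biprod a.qc b.qc
  fp := (isFinitePresentation_iff (qc_biprod a.qc b.qc)).2 fun E hE => by
    haveI := fpOn a E hE trivial
    haveI := fpOn b E hE trivial
    exact finitePresentation_biprod

variable (hqc : AlgSp.IsQuasiCompactSp Xs.obj) (hqs : AlgSp.IsQuasiSeparatedSp Xs.obj) (hM : QC M)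

include hqc hqs hM in
theorem exists_gen (R : List (Req M)) : ∃ a : FPo M, ∀ r ∈ R, r.2 ∈ LinearMap.range (appS a.φ r.1.1) := by
  obtain ⟨G, φ, hG, hfp, hr⟩ := exists_fp_hom hqc hqs hM R
  exact ⟨⟨G, φ, hG, hfp⟩, hr⟩

theorem exists_kill_aux (a : FPo M) {B : AlgSp.ModEt Xs.obj} (hB : QC B)
    (hfin : ∀ E, Aff Xs.obj E → Module.Finite ((AlgSp.OEt Xs.obj).obj.obj (op E)) (Sec B E))
    (k : B ⟶ a.G) (hk : k ≫ a.φ = 0) :
    ∃ (b : FPo M) (π : a.G ⟶ b.G), π ≫ b.φ = a.φ ∧ ∀ E (y : Sec B E), appS π E (appS k E y) = 0 :=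
  ⟨⟨cokernel k, cokernel.desc k a.φ hk, qc_cokernel k hB a.qc, fp_quot k hB a.qc (fpOn a) hfin⟩, cokernel.π k,
    cokernel.π_desc _ _ _, fun E y => (appS_comp k (cokernel.π k) E y).symm.trans
      ((congrArg (fun g => appS g E y) (cokernel.condition k)).trans (appS_zero_hom _ _))⟩

include hqc hqs hM in
theorem exists_kill (a : FPo M) (R : List (Req (kernel a.φ))) :
    ∃ (b : FPo M) (π : a.G ⟶ b.G), π ≫ b.φ = a.φ ∧
      ∀ r ∈ R, appS π r.1.1 (appS (kernel.ι a.φ) r.1.1 r.2) = 0 := by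
  have hK : QC (kernel a.φ) := qc_kernel a.φ a.qc hM
  obtain ⟨A, hA, hm⟩ := exists_ext_kernel hqc hqs hK R
  have hk : (A.ι hK ≫ kernel.ι a.φ) ≫ a.φ = 0 := by rw [Category.assoc, kernel.condition, comp_zero]
  have h := exists_kill_aux a (A.qc hK) (fun E hE => finite_toMod hK A hE (hA E hE)) _ hk
  obtain ⟨b, π, hπ, hy⟩ := h
  refine ⟨b, π, hπ, fun r hr => ?_⟩
  exact (congrArg (appS π r.1.1) (appS_comp (A.ι hK) (kernel.ι a.φ) r.1.1
    ⟨r.2, (A.mem_iff hK r.1.2 r.2).2 (hm r hr)⟩).symm).trans (hy r.1.1 _)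

/-- A choice of module with prescribed sections. -/
def genC (R : List (Req M)) : FPo M := (exists_gen hqc hqs hM R).choose

/-- A choice of quotient killing prescribed sections. -/
def killC (a : FPo M) (R : List (Req (kernel a.φ))) : FPo M := (exists_kill hqc hqs hM a R).choose

/-- The levels of the index type. -/
def Lev : ℕ → Σ T : Type (u + 1), T → FPo M
  | 0 => ⟨List (Req M), genC hqc hqs hM⟩
  | n + 1 => ⟨(Lev n).1 ⊕ ((Lev n).1 × (Lev n).1) ⊕ (Σ a : (Lev n).1, List (Req (kernel ((Lev n).2 a).φ))),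
      Sum.elim (Lev n).2 (Sum.elim (fun p => ((Lev n).2 p.1).sum ((Lev n).2 p.2))
        fun p => killC hqc hqs hM ((Lev n).2 p.1) p.2)⟩

/-- The indices. -/
def Idx : Type (u + 1) := Σ n : ULift.{u + 1} ℕ, (Lev hqc hqs hM n.down).1

/-- The module of an index. -/
def val (i : Idx hqc hqs hM) : FPo M := (Lev hqc hqs hM i.1.down).2 i.2

theorem exists_diff {a b c : FPo M} (f : a.over ⟶ c.over) (g : b.over ⟶ c.over) {E : AlgSp.EtOver Xs.obj}
    (y : Sec a.G E) (y' : Sec b.G E) (h : appS a.φ E y = appS b.φ E y') :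
    ∃ w : Sec (kernel c.φ) E, appS (kernel.ι c.φ) E w = appS f.left E y - appS g.left E y' := by
  have hf : appS c.φ E (appS f.left E y) = appS a.φ E y :=
    (appS_comp _ _ E y).symm.trans (congrArg (fun m => appS m E y) (Over.w f))
  have hg : appS c.φ E (appS g.left E y') = appS b.φ E y' :=
    (appS_comp _ _ E y').symm.trans (congrArg (fun m => appS m E y') (Over.w g))
  exact exists_kernel_sec c.φ E _ ((map_sub (appS c.φ E) _ _).trans (sub_eq_zero.2 (hf.trans (h.trans hg.symm))))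

theorem eq_of_killed {a b c l : FPo M} {P : AlgSp.ModEt Xs.obj} (f : a.over ⟶ c.over) (g : b.over ⟶ c.over)
    (π : c.over ⟶ l.over) {E : AlgSp.EtOver Xs.obj} (y : Sec a.G E) (y' : Sec b.G E)
    {w : Sec (kernel c.φ) E} (h0 : appS π.left E (appS (kernel.ι c.φ) E w) = 0)
    (hw : appS (kernel.ι c.φ) E w = appS f.left E y - appS g.left E y')
    {sa : a.G ⟶ P} {sb : b.G ⟶ P} {sc : c.G ⟶ P} {sl : l.G ⟶ P}
    (hπ : π.left ≫ sl = sc) (hf : f.left ≫ sc = sa) (hg : g.left ≫ sc = sb) :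
    appS sa E y = appS sb E y' := by
  rw [hw, map_sub, sub_eq_zero] at h0
  subst hπ hf hg
  rw [appS_comp, appS_comp, appS_comp, appS_comp]
  exact congrArg (appS sl E) h0

/-- The index category. -/
abbrev Cat : Type (u + 1) := InducedCategory (Over M) fun i : Idx hqc hqs hM => (val hqc hqs hM i).over

theorem exists_lift {n m : ℕ} (h : n ≤ m) (a : (Lev hqc hqs hM n).1) :
    ∃ b : (Lev hqc hqs hM m).1, (Lev hqc hqs hM m).2 b = (Lev hqc hqs hM n).2 a := by
  induction h with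
  | refl => exact ⟨a, rfl⟩
  | step _ ih =>
    obtain ⟨b, hb⟩ := ih
    exact ⟨Sum.inl b, hb⟩

theorem exists_gen_idx (R : List (Req M)) :
    ∃ i : Idx hqc hqs hM, ∀ r ∈ R, r.2 ∈ LinearMap.range (appS (val hqc hqs hM i).φ r.1.1) :=
  ⟨⟨⟨0⟩, R⟩, (exists_gen hqc hqs hM R).choose_spec⟩

theorem exists_incl {a b c : FPo M} (e : c = a.sum b) :
    ∃ (_ : a.over ⟶ c.over), Nonempty (b.over ⟶ c.over) := by
  subst e
  exact ⟨Over.homMk (biprod.inl : a.G ⟶ a.G ⊞ b.G) (biprod.inl_desc _ _),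
    ⟨Over.homMk (biprod.inr : b.G ⟶ a.G ⊞ b.G) (biprod.inr_desc _ _)⟩⟩

theorem exists_sum_idx (i j : Idx hqc hqs hM) :
    ∃ k : Idx hqc hqs hM, ∃ (f : (val hqc hqs hM i).over ⟶ (val hqc hqs hM k).over)
      (_ : (val hqc hqs hM j).over ⟶ (val hqc hqs hM k).over), True := by
  obtain ⟨a, ha⟩ := exists_lift hqc hqs hM (Nat.le_max_left i.1.down j.1.down) i.2
  obtain ⟨b, hb⟩ := exists_lift hqc hqs hM (Nat.le_max_right i.1.down j.1.down) j.2
  let k : Idx hqc hqs hM := ⟨⟨max i.1.down j.1.down + 1⟩, Sum.inr (Sum.inl (a, b))⟩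
  obtain ⟨f, ⟨g⟩⟩ := exists_incl (congrArg₂ FPo.sum ha hb : val hqc hqs hM k = _)
  exact ⟨k, f, g, trivial⟩

theorem exists_kill_idx (i : Idx hqc hqs hM) (R : List (Req (kernel (val hqc hqs hM i).φ))) :
    ∃ (k : Idx hqc hqs hM) (π : (val hqc hqs hM i).over ⟶ (val hqc hqs hM k).over),
      ∀ r ∈ R, appS π.left r.1.1 (appS (kernel.ι (val hqc hqs hM i).φ) r.1.1 r.2) = 0 := by
  obtain ⟨π, hπ, hr⟩ := (exists_kill hqc hqs hM (val hqc hqs hM i) R).choose_spec
  let k : Idx hqc hqs hM := ⟨⟨i.1.down + 1⟩, Sum.inr (Sum.inr ⟨i.2, R⟩)⟩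
  exact ⟨k, Over.homMk π hπ, hr⟩

attribute [irreducible] val

theorem comp_φ {i j : Cat hqc hqs hM} (f : i ⟶ j) :
    f.hom.left ≫ (val hqc hqs hM j).φ = (val hqc hqs hM i).φ := Over.w f.hom

include hqc in
theorem exists_chart_gens (a : FPo M) :
    ∃ (E₀ : AlgSp.EtOver Xs.obj) (_ : Aff Xs.obj E₀) (_ : AlgSp.RepWith @Surjective E₀.obj.hom)
      (T : Finset (Sec a.G E₀)), Submodule.span ((AlgSp.OEt Xs.obj).obj.obj (op E₀)) (T : Set (Sec a.G E₀)) = ⊤ := by
  haveI := ASp.compactSpace_of_isQuasiCompactSp hqc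
  obtain ⟨U, p, hU, hp, hps⟩ := ASp.exists_affine_chart Xs.property
  let E₀ : AlgSp.EtOver Xs.obj := AlgSp.EtOver.mk p hp
  haveI := fpOn a E₀ hU trivial
  obtain ⟨T, hT⟩ := (Module.Finite.fg_top : (⊤ : Submodule ((AlgSp.OEt Xs.obj).obj.obj (op E₀)) (Sec a.G E₀)).FG)
  exact ⟨E₀, hU, hps, T, hT⟩

theorem isFiltered_cat : IsFiltered (Cat hqc hqs hM) := by
  classical
  have hne : Nonempty (Cat hqc hqs hM) := ⟨(⟨⟨0⟩, []⟩ : Idx hqc hqs hM)⟩
  exact
    { nonempty := hne
      cocone_objs := fun i j => by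
        obtain ⟨k, f, g, -⟩ := exists_sum_idx hqc hqs hM i j
        exact ⟨k, InducedCategory.homMk f, InducedCategory.homMk g, trivial⟩
      cocone_maps := fun i j f g => by
        obtain ⟨E₀, hE₀, hps, T, hT⟩ := exists_chart_gens hqc (val hqc hqs hM i)
        have hd : ∀ t : Sec (val hqc hqs hM i).G E₀, ∃ w : Sec (kernel (val hqc hqs hM j).φ) E₀,
            appS (kernel.ι (val hqc hqs hM j).φ) E₀ w = appS f.hom.left E₀ t - appS g.hom.left E₀ t := fun t => by
          refine exists_kernel_sec _ E₀ _ ((map_sub (appS (val hqc hqs hM j).φ E₀) _ _).trans (sub_eq_zero.2 ?_))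
          exact ((appS_comp _ _ E₀ t).symm.trans (congrArg (fun k => appS k E₀ t) (comp_φ hqc hqs hM f))).trans
            ((appS_comp _ _ E₀ t).symm.trans (congrArg (fun k => appS k E₀ t) (comp_φ hqc hqs hM g))).symm
        choose w hw using hd
        obtain ⟨k, π, hπ⟩ := exists_kill_idx hqc hqs hM j (T.toList.map fun t => ⟨⟨E₀, hE₀⟩, w t⟩)
        refine ⟨k, InducedCategory.homMk π, InducedCategory.hom_ext (Over.OverMorphism.ext ?_)⟩
        show f.hom.left ≫ π.left = g.hom.left ≫ π.left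
        refine hom_ext_chart (val hqc hqs hM i).qc hE₀ hps hT fun t ht => ?_
        have h0 := hπ ⟨⟨E₀, hE₀⟩, w t⟩ (List.mem_map.2 ⟨t, Finset.mem_toList.2 ht, rfl⟩)
        rw [hw, map_sub, sub_eq_zero] at h0
        exact ((appS_comp _ _ E₀ t).trans h0).trans (appS_comp _ _ E₀ t).symm }

/-- The diagram. -/
def diag : Cat hqc hqs hM ⥤ AlgSp.ModEt Xs.obj := inducedFunctor _ ⋙ Over.forget M

/-- The cocone maps. -/
def leg : diag hqc hqs hM ⟶ (Functor.const (Cat hqc hqs hM)).obj M where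
  app i := (val hqc hqs hM i).φ
  naturality i j f := (comp_φ hqc hqs hM f).trans (Category.comp_id _).symm

section Desc

variable (s : Cocone (diag hqc hqs hM))

/-- A leg, as a map out of the module. -/
def sleg (i : Idx hqc hqs hM) : (val hqc hqs hM i).G ⟶ s.pt := s.ι.app i

theorem sleg_w {i j : Idx hqc hqs hM} (f : (val hqc hqs hM i).over ⟶ (val hqc hqs hM j).over) :
    f.left ≫ sleg hqc hqs hM s j = sleg hqc hqs hM s i :=
  s.w (InducedCategory.homMk (F := fun i : Idx hqc hqs hM => (val hqc hqs hM i).over) f :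
    @Quiver.Hom (Cat hqc hqs hM) _ i j)

theorem sleg_eq {i j : Idx hqc hqs hM} {E : AlgSp.EtOver Xs.obj} (hE : Aff Xs.obj E)
    (y : Sec (val hqc hqs hM i).G E) (y' : Sec (val hqc hqs hM j).G E)
    (h : appS (val hqc hqs hM i).φ E y = appS (val hqc hqs hM j).φ E y') :
    appS (sleg hqc hqs hM s i) E y = appS (sleg hqc hqs hM s j) E y' := by
  obtain ⟨k, f, g, -⟩ := exists_sum_idx hqc hqs hM i j
  have hw := exists_diff f g y y' h
  obtain ⟨w, hw⟩ := hw
  have hk := exists_kill_idx hqc hqs hM k [⟨⟨E, hE⟩, w⟩]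
  obtain ⟨l, π, hπ⟩ := hk
  exact eq_of_killed f g π y y' (hπ _ (List.mem_singleton_self _)) hw
    (sleg_w hqc hqs hM s π) (sleg_w hqc hqs hM s f) (sleg_w hqc hqs hM s g)

theorem exists_sec {E : AlgSp.EtOver Xs.obj} (hE : Aff Xs.obj E) (x : Sec M E) :
    ∃ (i : Idx hqc hqs hM) (y : Sec (val hqc hqs hM i).G E), appS (val hqc hqs hM i).φ E y = x := by
  obtain ⟨i, hi⟩ := exists_gen_idx hqc hqs hM [⟨⟨E, hE⟩, x⟩]
  exact ⟨i, hi _ (List.mem_singleton_self _)⟩

theorem exists_desc : ∃ d : M ⟶ s.pt, ∀ i, (val hqc hqs hM i).φ ≫ d = sleg hqc hqs hM s i := by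
  choose I Y hY using fun (E : AlgSp.EtOver Xs.obj) (hE : Aff Xs.obj E) (x : Sec M E) => exists_sec hqc hqs hM hE x
  have key : ∀ (E : AlgSp.EtOver Xs.obj) (hE : Aff Xs.obj E) (x : Sec M E) (j : Idx hqc hqs hM)
      (y : Sec (val hqc hqs hM j).G E), appS (val hqc hqs hM j).φ E y = x →
      appS (sleg hqc hqs hM s (I E hE x)) E (Y E hE x) = appS (sleg hqc hqs hM s j) E y := fun E hE x j y h =>
    sleg_eq hqc hqs hM s hE _ _ ((hY E hE x).trans h.symm)
  let v : ∀ E, Aff Xs.obj E → (Sec M E →ₗ[(AlgSp.OEt Xs.obj).obj.obj (op E)] Sec s.pt E) := fun E hE =>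
    { toFun := fun x => appS (sleg hqc hqs hM s (I E hE x)) E (Y E hE x)
      map_add' := fun x x' => by
        obtain ⟨k, f, g, -⟩ := exists_sum_idx hqc hqs hM (I E hE x) (I E hE x')
        have hf : appS (val hqc hqs hM k).φ E (appS f.left E (Y E hE x)) = x :=
          ((appS_comp _ _ E _).symm.trans (congrArg (fun m => appS m E (Y E hE x)) (Over.w f))).trans (hY E hE x)
        have hg : appS (val hqc hqs hM k).φ E (appS g.left E (Y E hE x')) = x' :=
          ((appS_comp _ _ E _).symm.trans (congrArg (fun m => appS m E (Y E hE x')) (Over.w g))).trans (hY E hE x')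
        rw [key E hE _ k (appS f.left E (Y E hE x) + appS g.left E (Y E hE x')) (by rw [map_add, hf, hg]),
          key E hE x k _ hf, key E hE x' k _ hg, map_add]
      map_smul' := fun r x => by
        rw [key E hE (r • x) (I E hE x) (r • Y E hE x) (by rw [map_smul, hY]), map_smul, RingHom.id_apply] }
  obtain ⟨d, hd⟩ := exists_hom_of_affine v fun {A B} g hA hB x => by
    show appS (sleg hqc hqs hM s (I B hB _)) B (Y B hB _) = resS s.pt g (appS (sleg hqc hqs hM s (I A hA x)) A (Y A hA x))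
    rw [key B hB _ (I A hA x) (resS _ g (Y A hA x)) ((appS_res _ g _).trans (congrArg (resS M g) (hY A hA x))),
      appS_res]
  refine ⟨d, fun i => hom_ext_affine fun E hE y => ?_⟩
  exact ((appS_comp _ _ E y).trans (hd E hE _)).trans (key E hE _ i y rfl)

end Desc

include hqc hqs hM in
/-- Quasi-coherent modules are filtered colimits of finitely presented modules. -/
theorem exists_fp_colimit :
    ∃ (J : Type (u + 1)) (_ : SmallCategory J) (_ : IsFiltered J) (D : J ⥤ AlgSp.ModEt Xs.obj)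
      (ι : D ⟶ (Functor.const J).obj M),
      (∀ j, (D.obj j).IsFinitePresentation) ∧ Nonempty (IsColimit (Cocone.mk M ι)) := by
  refine ⟨Cat hqc hqs hM, inferInstance, isFiltered_cat hqc hqs hM, diag hqc hqs hM, leg hqc hqs hM,
    fun i => (val hqc hqs hM i).fp, ⟨{ desc := fun s => (exists_desc hqc hqs hM s).choose, fac := fun s i => ?_, uniq := fun s m hm => ?_ }⟩⟩
  · exact (exists_desc hqc hqs hM s).choose_spec i
  · refine hom_ext_affine fun E hE x => ?_
    obtain ⟨i, y, rfl⟩ := exists_sec hqc hqs hM hE x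
    refine (appS_comp _ _ E y).symm.trans (Eq.trans ?_ (appS_comp _ _ E y))
    exact congrArg (fun k => appS k E y) ((hm i).trans ((exists_desc hqc hqs hM s).choose_spec i).symm)

end Groth.Agent.AlgSpFP

end
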