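import Groth.Agent.AlgSpFP.Step

/-! Prescribed sections of quasi-coherent modules come from finitely presented modules. -/

set_option autoImplicit false
set_option linter.style.haveILetI false
set_option linter.unusedSectionVars false
set_option backward.isDefEq.respectTransparency false
set_option backward.isDefEq.respectTransparency.types false
set_option maxHeartbeats 800000

universe u

open CategoryTheory Limits AlgebraicGeometry Opposite
open Groth.Agent.AlgSpQC Groth.Agent.AlgSpFT

noncomputable section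

namespace Groth.Agent.AlgSpFP

variable {S : Scheme.{u}} [QuasiSeparatedSpace ↥S] {Xs : AlgSp.Space S}

theorem subsingleton_sec_of_isEmpty {X : AlgSp.Sp S} {M : AlgSp.ModEt X} (hM : QC M) {E : AlgSp.EtOver X}
    (hE : Aff X E) (h : IsEmpty E.obj.left.left) : Subsingleton (Sec M E) := by
  refine ⟨fun a b => sub_eq_zero.1 ((Submodule.mem_bot ((AlgSp.OEt X).obj.obj (op E))).1 ?_)⟩
  exact mem_of_span_cover hM hE (n := 0) (Z := fun i => i.elim0) (fun i => i.elim0) (fun i => i.elim0)
    (fun w => h.elim w) _ _ fun i => i.elim0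

theorem genOn_empty {M : AlgSp.ModEt Xs.obj} (hM : QC M) : GenOn M (∅ : Set (AlgSp.Points Xs.obj)) := by
  intro R
  let J : Type (u + 1) := PEmpty
  refine ⟨AlgSp.freeModEt Xs.obj J, 0, qc_free _, fun E hE _ => finite_sec_free J hE, fun r _ Z k hZ hL => ?_⟩
  haveI := subsingleton_sec_of_isEmpty hM hZ ⟨fun z => hL z⟩
  exact ⟨0, Subsingleton.elim _ _⟩

/-- Every finite set of sections of a quasi-coherent module comes from a finitely presented module. -/
theorem exists_fp_hom (hqc : AlgSp.IsQuasiCompactSp Xs.obj) (hqs : AlgSp.IsQuasiSeparatedSp Xs.obj)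
    {M : AlgSp.ModEt Xs.obj} (hM : QC M) (R : List (Req M)) :
    ∃ (G : AlgSp.ModEt Xs.obj) (φ : G ⟶ M), QC G ∧ G.IsFinitePresentation ∧
      ∀ r ∈ R, r.2 ∈ LinearMap.range (appS φ r.1.1) := by
  have key : GenOn M Set.univ := by
    refine AlgSpInd.enlarge Xs hqc hqs ∅ isOpen_empty isCompact_empty (GenOn M) (genOn_empty hM)
      fun O hO O' hOc _ hO' hOc' hP hsq => ?_
    obtain ⟨V, g, κ, hV, hκ, hge, hd⟩ :=
      hsq (AlgSpInd.sub Xs O' hO') (AlgSpInd.subIncl Xs O' hO') (AlgSpInd.repWith_subIncl _ _ _)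
        (AlgSpInd.range_subIncl _ _ _)
    let T : AlgSp.EtOver Xs.obj := chartObj Xs hge
    have hgT : g ≫ (AlgSpInd.subIncl Xs O' hO').hom = T.obj.hom := (Category.id_comp _).symm
    haveI := AlgSpInd.mono_openImm (AlgSpInd.repWith_subIncl Xs O' hO')
    have hu : O' = O ∪ Set.range (AlgSp.Points.ofPt T.obj.hom) := by
      apply le_antisymm
      · intro x hx
        obtain ⟨y, rfl⟩ := (AlgSpInd.range_subIncl Xs O' hO').symm.subset hx
        rcases ElemSqLib.mem_range_or hd y with ⟨a, rfl⟩ | ⟨a, rfl⟩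
        · refine Or.inl ((AlgSpInd.range_subIncl Xs O hO).subset ⟨a, ?_⟩)
          rw [← hκ]
          exact AlgSp.Points.map_comp _ _ _
        · obtain ⟨a, rfl⟩ := (AlgSp.Points.schemeHomeo V).surjective a
          refine Or.inr ⟨a, ?_⟩
          rw [ASp.ofPt_comp_eq_map, ← hgT]
          exact AlgSp.Points.map_comp _ _ _
      · rintro x (hx | ⟨a, rfl⟩)
        · obtain ⟨y, rfl⟩ := (AlgSpInd.range_subIncl Xs O hO).symm.subset hx
          refine (AlgSpInd.range_subIncl Xs O' hO').subset ⟨AlgSp.Points.map κ.hom y, ?_⟩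
          rw [← hκ]
          exact (AlgSp.Points.map_comp _ _ _).symm
        · refine (AlgSpInd.range_subIncl Xs O' hO').subset
            ⟨AlgSp.Points.map g (AlgSp.Points.schemeHomeo V a), ?_⟩
          rw [ASp.ofPt_comp_eq_map, ← hgT]
          exact (AlgSp.Points.map_comp _ _ _).symm
    exact genOn_step hqc hqs hM hO hOc hO' hOc' hV hge hu
      (fun Z hZ k₁ k₂ => cover_equalizer hκ T hgT hd O hO (AlgSpInd.range_subIncl _ _ _) hZ k₁ k₂) hP
  obtain ⟨G, φ, hG, hFP, hmem⟩ := key R
  refine ⟨G, φ, hG, (isFinitePresentation_iff hG).2 fun E hE => hFP E hE fun _ => trivial, fun r hr => ?_⟩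
  have h := hmem r hr r.1.1 (𝟙 _) r.1.2 fun _ => trivial
  rw [show resS M (𝟙 r.1.1) r.2 = r.2 from res_id M.val r.2] at h
  exact h

end Groth.Agent.AlgSpFP

end
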