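import Groth.Agent.AlgSpFP.Sections
import Groth.Agent.AlgSpFP.Glue

/-! Morphisms out of a module of finite presentation commute with directed colimits. -/

set_option autoImplicit false
set_option linter.style.haveILetI false
set_option linter.unusedSectionVars false
set_option backward.isDefEq.respectTransparency false
set_option backward.isDefEq.respectTransparency.types false
set_option maxHeartbeats 800000

universe u

open CategoryTheory Limits AlgebraicGeometry Opposite
open Groth.Agent.AlgSpQC Groth.Agent.AlgSpFT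

noncomputable section

namespace Groth.Agent.AlgSpFP

variable {S : Scheme.{u}} {X : AlgSp.Sp S} {I : Type (u + 1)} [Preorder I] [IsDirected I (· ≤ ·)] [Nonempty I]
  {D : I ⥤ AlgSp.ModEt X} {c : Cocone D}

theorem map_map {i j k : I} (f : i ⟶ j) (g : j ⟶ k) (h : i ⟶ k) {E : AlgSp.EtOver X} (x : Sec (D.obj i) E) :
    appS (D.map g) E (appS (D.map f) E x) = appS (D.map h) E x := by
  rw [← appS_comp, ← D.map_comp]
  exact congrArg (fun q => appS (D.map q) E x) (Subsingleton.elim _ _)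

theorem ι_map {i j : I} (f : i ⟶ j) {E : AlgSp.EtOver X} (x : Sec (D.obj i) E) :
    appS (c.ι.app j) E (appS (D.map f) E x) = appS (c.ι.app i) E x :=
  (appS_comp _ _ E x).symm.trans (congrArg (fun q => appS q E x) (c.w f))

/-- Finitely many equalities in the colimit hold at a finite stage. -/
theorem exists_stage (hc : IsColimit c) {ι : Type*} [Finite ι] (E : ι → AlgSp.EtOver X)
    (hE : ∀ a, CohColim.qcqsPropSp X (E a)) {i : I} (x y : ∀ a, Sec (D.obj i) (E a))
    (h : ∀ a, appS (c.ι.app i) (E a) (x a) = appS (c.ι.app i) (E a) (y a)) :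
    ∃ (j : I) (f : i ⟶ j), ∀ a, appS (D.map f) (E a) (x a) = appS (D.map f) (E a) (y a) := by
  classical
  cases nonempty_fintype ι
  choose j f hf using fun a => sec_eq_iff hc (hE a) (x a) (y a) (h a)
  obtain ⟨k, hk⟩ := IsFiltered.sup_objs_exists (insert i (Finset.univ.image j))
  refine ⟨k, (hk (Finset.mem_insert_self _ _)).some, fun a => ?_⟩
  have g := (hk (Finset.mem_insert_of_mem (Finset.mem_image_of_mem j (Finset.mem_univ a)))).some
  rw [← map_map (f a) g, ← map_map (f a) g (hk (Finset.mem_insert_self _ _)).some, hf a]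

/-- Finitely many sections of the colimit come from a common stage. -/
theorem exists_rep (hc : IsColimit c) {ι : Type*} [Finite ι] {E : AlgSp.EtOver X}
    (hE : CohColim.qcqsPropSp X E) (x : ι → Sec c.pt E) :
    ∃ (i : I) (y : ι → Sec (D.obj i) E), ∀ a, appS (c.ι.app i) E (y a) = x a := by
  classical
  cases nonempty_fintype ι
  choose j y hy using fun a => sec_jointly_surjective hc hE (x a)
  obtain ⟨k, hk⟩ := IsFiltered.sup_objs_exists (Finset.univ.image j)
  exact ⟨k, fun a => appS (D.map (hk (Finset.mem_image_of_mem j (Finset.mem_univ a))).some) E (y a),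
    fun a => by rw [ι_map, hy a]⟩

theorem exists_linear_lift (hc : IsColimit c) {E : AlgSp.EtOver X} (hE : CohColim.qcqsPropSp X E) {G : AlgSp.ModEt X}
    [Module.FinitePresentation ((AlgSp.OEt X).obj.obj (op E)) (Sec G E)]
    (ψ : Sec G E →ₗ[(AlgSp.OEt X).obj.obj (op E)] Sec c.pt E) :
    ∃ (i : I) (φ : Sec G E →ₗ[(AlgSp.OEt X).obj.obj (op E)] Sec (D.obj i) E),
      (appS (c.ι.app i) E).comp φ = ψ := by
  classical
  let R := (AlgSp.OEt X).obj.obj (op E)
  obtain ⟨n, π, hπ⟩ := Module.Finite.exists_fin' R (Sec G E)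
  obtain ⟨i, y, hy⟩ := exists_rep hc hE (fun k => ψ (π (Pi.single k 1)))
  let q : (Fin n → R) →ₗ[R] Sec (D.obj i) E := Fintype.linearCombination R y
  have hq : ∀ w, appS (c.ι.app i) E (q w) = ψ (π w) := by
    have e : (appS (c.ι.app i) E).comp q = ψ.comp π := (Pi.basisFun R (Fin n)).ext fun k => by
      rw [Pi.basisFun_apply]
      show appS (c.ι.app i) E (Fintype.linearCombination R y (Pi.single k 1)) = ψ (π (Pi.single k 1))
      rw [Fintype.linearCombination_apply_single, one_smul, hy]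
    exact LinearMap.congr_fun e
  obtain ⟨T, hT⟩ := Module.FinitePresentation.fg_ker π hπ
  obtain ⟨j, f, hf⟩ := exists_stage hc (fun _ : T => E) (fun _ => hE) (fun r => q r.1) (fun _ => (0 : Sec (D.obj i) E))
    fun r => by
      have h0 : π r.1 = 0 := LinearMap.mem_ker.1 (hT.le (Submodule.subset_span r.2))
      rw [hq, h0, map_zero]
      exact (map_zero _).symm
  have hle : LinearMap.ker π ≤ LinearMap.ker ((appS (D.map f) E).comp q) := by
    rw [← hT, Submodule.span_le]
    intro r hr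
    exact (hf ⟨r, hr⟩).trans (map_zero _)
  let φ : Sec G E →ₗ[R] Sec (D.obj j) E :=
    ((LinearMap.ker π).liftQ _ hle).comp (π.quotKerEquivOfSurjective hπ).symm.toLinearMap
  refine ⟨j, φ, LinearMap.ext fun x => ?_⟩
  obtain ⟨w, rfl⟩ := hπ x
  have e : (π.quotKerEquivOfSurjective hπ).symm (π w) = Submodule.Quotient.mk w := by
    rw [LinearEquiv.symm_apply_eq]
    rfl
  show appS (c.ι.app j) E ((LinearMap.ker π).liftQ _ hle ((π.quotKerEquivOfSurjective hπ).symm (π w))) = ψ (π w)
  rw [e, Submodule.liftQ_apply, LinearMap.comp_apply, ι_map, hq]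

theorem exists_affine_cover_of_compact {P : AlgSp.EtOver X} (hP : CompactSpace P.obj.left.left) :
    ∃ (n : ℕ) (Z : Fin n → AlgSp.EtOver X) (f : ∀ a, Z a ⟶ P),
      (∀ a, Aff X (Z a)) ∧ Sieve.ofArrows Z f ∈ AlgSp.etTop X P := by
  haveI := hP
  obtain ⟨n, Z, f, hZ, -, hs⟩ := exists_finite_cover (fun _ : AlgSp.EtOver X => True) Set.univ isCompact_univ
    fun w (_ : w ∈ (Set.univ : Set P.obj.left.left)) => by
      obtain ⟨O, hO, hvO, -⟩ := exists_isAffineOpen_mem_and_subset (X := P.obj.left.left) (U := ⊤) (x := w) trivial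
      exact ⟨openObj P O, openObjHom P O, aff_openObj P hO, trivial, ⟨w, hvO⟩, rfl⟩
  exact ⟨n, Z, f, hZ, AlgSp.ofArrows_mem_etTop _ _ fun w => by
    obtain ⟨a, z, hz⟩ := hs w trivial
    exact ⟨a, z, hz⟩⟩

variable [QuasiSeparatedSpace ↥S]

/-- Morphisms out of a finitely presented module into a directed colimit factor through a stage. -/
theorem exists_lift_and_injective (Xs : AlgSp.Space S) (hqc : AlgSp.IsQuasiCompactSp Xs.obj)
    (hqs : AlgSp.IsQuasiSeparatedSp Xs.obj) (G : AlgSp.ModEt Xs.obj) [G.IsFinitePresentation]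
    {D : I ⥤ AlgSp.ModEt Xs.obj} {c : Cocone D} (hc : IsColimit c) :
    (∀ ψ : G ⟶ c.pt, ∃ (i : I) (φ : G ⟶ D.obj i), φ ≫ c.ι.app i = ψ) ∧
      ∀ (i : I) (a b : G ⟶ D.obj i), a ≫ c.ι.app i = b ≫ c.ι.app i →
        ∃ (j : I) (f : i ⟶ j), a ≫ D.map f = b ≫ D.map f := by
  classical
  haveI := ASp.compactSpace_of_isQuasiCompactSp hqc
  obtain ⟨U, p, hU, hp, hps⟩ := ASp.exists_affine_chart Xs.property
  let E₀ : AlgSp.EtOver Xs.obj := AlgSp.EtOver.mk p hp
  have hE₀ : Aff Xs.obj E₀ := hU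
  have h₀ : CohColim.qcqsPropSp Xs.obj E₀ := qcqsPropSp_of_aff hE₀
  have hG : QC G := (isQuasicoherent_iff G).1 inferInstance
  haveI : Module.FinitePresentation ((AlgSp.OEt Xs.obj).obj.obj (op E₀)) (Sec G E₀) :=
    (isFinitePresentation_iff hG).1 inferInstance E₀ hE₀
  obtain ⟨T, hT⟩ := (Module.Finite.fg_top : (⊤ : Submodule ((AlgSp.OEt Xs.obj).obj.obj (op E₀)) (Sec G E₀)).FG)
  constructor
  · intro ψ
    obtain ⟨i, φ, hφ⟩ := exists_linear_lift hc h₀ (appS ψ E₀)
    obtain ⟨n, Z, f, hZ, hR⟩ := exists_affine_cover_of_compact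
      (P := AlgSp.EtOver.prodObj E₀ E₀) (CohColim.qcqsPropSp_prodObj hqs E₀ h₀).1
    let pr : ∀ a, Z a ⟶ E₀ := fun a => f a ≫ AlgSp.EtOver.prodFst E₀ E₀
    let qr : ∀ a, Z a ⟶ E₀ := fun a => f a ≫ AlgSp.EtOver.prodSnd E₀ E₀
    obtain ⟨j, g, hg⟩ := exists_stage hc (fun q : Fin n × T => Z q.1) (fun q => qcqsPropSp_of_aff (hZ q.1))
      (i := i) (fun q => ext hG hE₀ φ (pr q.1) (hZ q.1) (resS G (qr q.1) q.2.1))
      (fun q => resS (D.obj i) (qr q.1) (φ q.2.1)) fun q => by
        rw [appS_ext, appS_res (c.ι.app i)]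
        rw [hφ, ext_appS, appS_res]
        exact congrArg (resS c.pt (qr q.1)) (LinearMap.congr_fun hφ q.2.1).symm
    obtain ⟨F, hF⟩ := exists_hom_of_chart hG hE₀ ((appS (D.map g) E₀).comp φ) hps
      (agree_of_cover hG hE₀ _ hT Z hZ f hR fun a t ht => by
        have := hg (a, ⟨t, ht⟩)
        rw [appS_ext, appS_res] at this
        exact this)
    refine ⟨j, F, hom_ext_chart hG hE₀ hps hT fun t _ => ?_⟩
    rw [appS_comp, LinearMap.congr_fun hF t, LinearMap.comp_apply, ι_map]
    exact LinearMap.congr_fun hφ t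
  · intro i a b hab
    obtain ⟨j, g, hg⟩ := exists_stage hc (fun _ : T => E₀) (fun _ => h₀) (fun t => appS a E₀ t.1)
      (fun t => appS b E₀ t.1) fun t => by
        rw [← appS_comp, ← appS_comp, hab]
    exact ⟨j, g, hom_ext_chart hG hE₀ hps hT fun t ht => by rw [appS_comp, appS_comp]; exact hg ⟨t, ht⟩⟩

/-- The functor of morphisms out of a finitely presented module preserves directed colimits. -/
theorem preservesColimitsOfShape_coyoneda (Xs : AlgSp.Space S) (hqc : AlgSp.IsQuasiCompactSp Xs.obj)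
    (hqs : AlgSp.IsQuasiSeparatedSp Xs.obj) (G : AlgSp.ModEt Xs.obj) [G.IsFinitePresentation] :
    PreservesColimitsOfShape I (coyoneda.obj (op G)) := by
  refine ⟨fun {D} => ⟨fun {c} hc => ⟨Types.FilteredColimit.isColimitOf _ _ (fun ψ => ?_) (fun i j a b h => ?_)⟩⟩⟩
  · obtain ⟨i, φ, hφ⟩ := (exists_lift_and_injective Xs hqc hqs G hc).1 ψ
    exact ⟨i, φ, hφ.symm⟩
  · obtain ⟨k, f, g, -⟩ := IsFilteredOrEmpty.cocone_objs i j
    obtain ⟨l, l', hl⟩ := (exists_lift_and_injective Xs hqc hqs G hc).2 k (a ≫ D.map f) (b ≫ D.map g) (by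
      rw [Category.assoc, Category.assoc, c.w f, c.w g]
      exact h)
    refine ⟨l, f ≫ l', g ≫ l', ?_⟩
    show a ≫ D.map (f ≫ l') = b ≫ D.map (g ≫ l')
    rw [D.map_comp, D.map_comp, ← Category.assoc, hl, Category.assoc]

end Groth.Agent.AlgSpFP

end
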