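import Groth.Agent.AlgSpFP.Alg
import Groth.Agent.AlgSpFT.Sub
import Groth.Agent.AlgSpQC.PullSec

/-! Killing finitely many sections by a finite type submodule. -/

set_option autoImplicit false
set_option linter.style.haveILetI false
set_option linter.unusedSectionVars false
set_option backward.isDefEq.respectTransparency false
set_option backward.isDefEq.respectTransparency.types false
set_option maxHeartbeats 800000

universe u

open CategoryTheory Limits AlgebraicGeometry Opposite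
open Groth.Agent.AlgSpQC Groth.Agent.AlgSpFT

noncomputable section

namespace Groth.Agent.AlgSpFP

variable {S : Scheme.{u}}

/-- Sections over affines of an object over `O` form a finitely presented module. -/
def FPOn {X : AlgSp.Sp S} (G : AlgSp.ModEt X) (L : AlgSp.EtOver X → Prop) : Prop :=
  ∀ E, Aff X E → L E → Module.FinitePresentation ((AlgSp.OEt X).obj.obj (op E)) (Sec G E)

variable [QuasiSeparatedSpace ↥S] (Xs : AlgSp.Space S) (hqc : AlgSp.IsQuasiCompactSp Xs.obj)
  (hqs : AlgSp.IsQuasiSeparatedSp Xs.obj)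

include hqc hqs in
/-- Finitely many sections killed by a map are killed in a quotient by a finite type submodule. -/
theorem exists_quot {G M : AlgSp.ModEt Xs.obj} (hG : QC G) (hM : QC M) (φ : G ⟶ M)
    (R : List (Req G)) (hR : ∀ r ∈ R, appS φ r.1.1 r.2 = 0) :
    ∃ (G₁ : AlgSp.ModEt Xs.obj) (π : G ⟶ G₁) (φ₁ : G₁ ⟶ M), QC G₁ ∧ π ≫ φ₁ = φ ∧
      (∀ E, Aff Xs.obj E → Function.Surjective (appS π E)) ∧
      (∀ r ∈ R, appS π r.1.1 r.2 = 0) ∧ ∀ L, FPOn G L → FPOn G₁ L := by
  classical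
  have hK : QC (kernel φ) := qc_kernel φ hG hM
  have hw : ∀ r : {r // r ∈ R}, ∃ w : Sec (kernel φ) r.1.1.1, appS (kernel.ι φ) r.1.1.1 w = r.1.2 := fun r =>
    exists_kernel_sec φ r.1.1.1 r.1.2 (hR r.1 r.2)
  choose w hw using hw
  obtain ⟨A, hA, -, hAm⟩ := exists_extension Xs hqc hqs hK isOpen_empty isCompact_empty (emptyPSub hK)
    (fun _ _ _ => Submodule.fg_bot) (R.attach.map fun r : {r // r ∈ R} => (⟨r.1.1, w r⟩ : Req (kernel φ)))
    (fun r _ => mem_emptyPSub_ext hK r.2)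
  have hB : QC (A.toMod hK) := A.qc hK
  let b : A.toMod hK ⟶ G := A.ι hK ≫ kernel.ι φ
  have hb : b ≫ φ = 0 := by rw [Category.assoc, kernel.condition, comp_zero]
  refine ⟨cokernel b, cokernel.π b, cokernel.desc b φ hb, qc_cokernel b hB hG, cokernel.π_desc _ _ _,
    fun E hE => (cokernel_sections b hB hG hE).1, fun r hr => ?_, fun L hL E hE hLE => ?_⟩
  · have hm : (⟨r.1, w ⟨r, hr⟩⟩ : Req (kernel φ)).2 ∈ A.N r.1.1 r.1.2 := hAm ⟨r.1, w ⟨r, hr⟩⟩
      (List.mem_map.2 ⟨⟨r, hr⟩, List.mem_attach _ _, rfl⟩)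
    have hm' : ∃ x : Sec (A.toMod hK) r.1.1, appS (A.ι hK) r.1.1 x = w ⟨r, hr⟩ :=
      ⟨⟨_, (A.mem_iff hK r.1.2 _).2 hm⟩, rfl⟩
    obtain ⟨x, hx⟩ := hm'
    refine ((cokernel_sections b hB hG r.1.2).2 r.2).2 ⟨x, ?_⟩
    show appS b r.1.1 x = r.2
    exact ((appS_comp _ _ _ x).trans (congrArg (appS (kernel.ι φ) r.1.1) hx)).trans (hw ⟨r, hr⟩)
  · haveI := hL E hE hLE
    haveI := finite_toMod hK A hE (hA E hE)
    obtain ⟨hs, hex⟩ := cokernel_sections b hB hG hE
    refine Module.finitePresentation_of_surjective ((evalC (AlgSp.OEt Xs.obj).obj E).map (cokernel.π b).val).hom hs ?_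
    rw [LinearMap.exact_iff.1 hex, LinearMap.range_eq_map]
    exact Module.Finite.fg_top.map _

end Groth.Agent.AlgSpFP

end
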