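import Groth.Agent.AlgSpFP.Alg
import Groth.Agent.AlgSpFT.Extend

/-! Modules saturated along a quasi-compact open subspace. -/

set_option autoImplicit false
set_option linter.style.haveILetI false
set_option linter.unusedSectionVars false
set_option backward.isDefEq.respectTransparency false
set_option backward.isDefEq.respectTransparency.types false
set_option maxHeartbeats 800000

universe u

open CategoryTheory Limits AlgebraicGeometry Opposite
open Groth.Agent.AlgSpQC Groth.Agent.AlgSpFT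

noncomputable section

namespace Groth.Agent.AlgSpFP

variable {S : Scheme.{u}} [QuasiSeparatedSpace ↥S] (Xs : AlgSp.Space S) (O : Set (AlgSp.Points Xs.obj)) (hO : IsOpen O)

/-- The open subspace is etale over the space. -/
theorem etaleInc : AlgSp.RepWith @AlgebraicGeometry.Etale (AlgSpInd.subIncl Xs O hO).hom :=
  etale_of_openImm _ (AlgSpInd.repWith_subIncl Xs O hO)

/-- The part of an object over the open. -/
def part (E : AlgSp.EtOver Xs.obj) : AlgSp.EtOver Xs.obj :=
  (compE (etaleInc Xs O hO)).obj ((AlgSp.EtOver.bc (etaleInc Xs O hO).1).obj E)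

/-- The inclusion of the part over the open. -/
def partHom (E : AlgSp.EtOver Xs.obj) : part Xs O hO E ⟶ E :=
  (compAdj (etaleInc Xs O hO)).counit.app E

theorem isOpenImmersion_partHom (E : AlgSp.EtOver Xs.obj) : IsOpenImmersion (partHom Xs O hO E).hom.left.left := by
  rw [partHom, compAdj_counit_left]
  exact (AlgSpInd.repWith_subIncl Xs O hO).2 _ _ _ ((etaleInc Xs O hO).1.isPullback E.obj.hom)

theorem LO_part (E : AlgSp.EtOver Xs.obj) : LO O (part Xs O hO E) := fun e =>
  (AlgSpInd.range_subIncl Xs O hO).subset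
    ⟨AlgSp.Points.ofPt ((AlgSp.EtOver.bc (etaleInc Xs O hO).1).obj E).obj.hom e, AlgSp.Points.map_ofPt _ _ _⟩

theorem mono_partHom (E : AlgSp.EtOver Xs.obj) : Mono (partHom Xs O hO E) := by
  haveI := isOpenImmersion_partHom Xs O hO E
  exact ⟨fun a b h => AlgSp.EtOver.hom_ext _ _ (Over.OverMorphism.ext
    ((cancel_mono (partHom Xs O hO E).hom.left.left).1 (congrArg (fun k => k.hom.left.left) h)))⟩

/-- Objects over the open map into the part over the open. -/
theorem exists_toPart {Z E : AlgSp.EtOver Xs.obj} (k : Z ⟶ E) (hL : LO O Z) :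
    ∃ l : Z ⟶ part Xs O hO E, l ≫ partHom Xs O hO E = k := by
  obtain ⟨a, ha⟩ := ASp.exists_lift_openImm (AlgSpInd.repWith_subIncl Xs O hO) Z.obj.hom
    fun e => (AlgSpInd.range_subIncl Xs O hO).symm.subset (hL e)
  have he := etaleInc Xs O hO
  have sq := he.1.isPullback E.obj.hom
  obtain ⟨l, hl⟩ := (AlgSp.yon S).map_surjective (sq.lift a ((AlgSp.yon S).map k.hom.left)
    (ha.trans (AlgSp.EtOver.w k).symm))
  have hl2 : l ≫ he.1.snd E.obj.hom = k.hom.left := (AlgSp.yon S).map_injective (by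
    rw [Functor.map_comp, hl]
    exact sq.lift_snd _ _ _)
  refine ⟨AlgSp.EtOver.homMk l ?_, AlgSp.EtOver.hom_ext _ _ ?_⟩
  · rw [← AlgSp.EtOver.w (partHom Xs O hO E), ← Category.assoc, ← Functor.map_comp, partHom, compAdj_counit_left, hl2]
    exact AlgSp.EtOver.w k
  · show l ≫ (partHom Xs O hO E).hom.left = k.hom.left
    rw [partHom, compAdj_counit_left, hl2]

/-- The module of sections over the part over the open. -/
def TT (M : AlgSp.ModEt Xs.obj) : AlgSp.ModEt Xs.obj :=
  (AlgSp.pushModEt (etaleInc Xs O hO).1).obj ((restrMod (etaleInc Xs O hO)).obj M)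

/-- The action on morphisms. -/
def TTmap {M N : AlgSp.ModEt Xs.obj} (φ : M ⟶ N) : TT Xs O hO M ⟶ TT Xs O hO N :=
  (AlgSp.pushModEt (etaleInc Xs O hO).1).map ((restrMod (etaleInc Xs O hO)).map φ)

/-- The unit. -/
def toTT (M : AlgSp.ModEt Xs.obj) : M ⟶ TT Xs O hO M := (restrAdj (etaleInc Xs O hO)).unit.app M

/-- A section read on the part over the open. -/
def rd {M : AlgSp.ModEt Xs.obj} {E : AlgSp.EtOver Xs.obj} (x : Sec (TT Xs O hO M) E) : Sec M (part Xs O hO E) :=
  fromRestr (etaleInc Xs O hO) _ (fromPush (etaleInc Xs O hO) E x)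

/-- A section on the part over the open, as a section. -/
def mkTT {M : AlgSp.ModEt Xs.obj} {E : AlgSp.EtOver Xs.obj} (y : Sec M (part Xs O hO E)) : Sec (TT Xs O hO M) E :=
  (show (TT Xs O hO M).val.obj (op E) from toRestr (etaleInc Xs O hO) ((AlgSp.EtOver.bc (etaleInc Xs O hO).1).obj E) y)

theorem rd_mkTT {M : AlgSp.ModEt Xs.obj} {E : AlgSp.EtOver Xs.obj} (y : Sec M (part Xs O hO E)) :
    rd Xs O hO (mkTT Xs O hO y) = y := rfl

theorem rd_inj {M : AlgSp.ModEt Xs.obj} {E : AlgSp.EtOver Xs.obj} {x y : Sec (TT Xs O hO M) E}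
    (h : rd Xs O hO x = rd Xs O hO y) : x = y := h

theorem rd_toTT {M : AlgSp.ModEt Xs.obj} {E : AlgSp.EtOver Xs.obj} (x : Sec M E) :
    rd Xs O hO (appS (toTT Xs O hO M) E x) = resS M (partHom Xs O hO E) x :=
  fromPush_unit (etaleInc Xs O hO) M E x

theorem rd_TTmap {M N : AlgSp.ModEt Xs.obj} (φ : M ⟶ N) {E : AlgSp.EtOver Xs.obj} (x : Sec (TT Xs O hO M) E) :
    rd Xs O hO (appS (TTmap Xs O hO φ) E x) = appS φ (part Xs O hO E) (rd Xs O hO x) := rfl

theorem toTT_naturality {M N : AlgSp.ModEt Xs.obj} (φ : M ⟶ N) :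
    toTT Xs O hO M ≫ TTmap Xs O hO φ = φ ≫ toTT Xs O hO N :=
  ((restrAdj (etaleInc Xs O hO)).unit.naturality φ).symm

theorem toTT_bijective (M : AlgSp.ModEt Xs.obj) {E : AlgSp.EtOver Xs.obj} (hL : LO O E) :
    Function.Bijective (appS (toTT Xs O hO M) E) := by
  obtain ⟨l, hl⟩ := exists_toPart Xs O hO (𝟙 E) hL
  haveI := mono_partHom Xs O hO E
  have hl' : partHom Xs O hO E ≫ l = 𝟙 _ := by
    rw [← cancel_mono (partHom Xs O hO E), Category.assoc, hl, Category.comp_id, Category.id_comp]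
  refine ⟨fun x y h => ?_, fun y => ⟨resS M l (rd Xs O hO y), rd_inj Xs O hO ?_⟩⟩
  · have h' := congrArg (resS M l) ((rd_toTT Xs O hO x).symm.trans ((congrArg (rd Xs O hO) h).trans (rd_toTT Xs O hO y)))
    rw [resS_comp, resS_comp, hl] at h'
    exact (res_id M.val x).symm.trans (h'.trans (res_id M.val y))
  · rw [rd_toTT, resS_comp, hl']
    exact res_id M.val _

theorem qc_TT (hqs : AlgSp.IsQuasiSeparatedSp Xs.obj) (hc : IsCompact O)
    {M : AlgSp.ModEt Xs.obj} (hM : QC M) : QC (TT Xs O hO M) := by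
  have key : ∀ E, Aff Xs.obj E → CompactSpace (part Xs O hO E).obj.left.left ∧
      QuasiSeparatedSpace (part Xs O hO E).obj.left.left := by
    intro E hE
    haveI : IsAffine E.obj.left.left := hE
    haveI := isOpenImmersion_partHom Xs O hO E
    have hr : Set.range (partHom Xs O hO E).hom.left.left = {e | AlgSp.Points.ofPt E.obj.hom e ∈ O} := by
      ext e
      constructor
      · rintro ⟨q, rfl⟩
        show AlgSp.Points.ofPt E.obj.hom ((partHom Xs O hO E).hom.left.left q) ∈ O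
        rw [← ASp.ofPt_yon_map_comp, AlgSp.EtOver.w (partHom Xs O hO E)]
        exact LO_part Xs O hO E q
      · intro he
        obtain ⟨W, hW, heW, hle⟩ := exists_isAffineOpen_mem_and_subset
          (U := (⟨_, hO.preimage (AlgSp.Points.continuous_ofPt E.obj.hom)⟩ : E.obj.left.left.Opens)) (x := e) he
        obtain ⟨l, hl⟩ := exists_toPart Xs O hO (openObjHom E W) (fun u => by
          show AlgSp.Points.ofPt ((AlgSp.yon S).map _ ≫ E.obj.hom) u ∈ O
          rw [ASp.ofPt_yon_map_comp]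
          exact hle u.2)
        exact ⟨l.hom.left.left ⟨e, heW⟩, congrArg (fun k : openObj E W ⟶ E => k.hom.left.left ⟨e, heW⟩) hl⟩
    refine ⟨⟨(partHom Xs O hO E).hom.left.left.isOpenEmbedding.isInducing.isCompact_iff.2 ?_⟩, ?_⟩
    · rw [Set.image_univ, hr]
      exact isCompact_preimage_chart hqs hE hO hc
    · exact quasiSeparatedSpace_of_quasiSeparated (partHom Xs O hO E).hom.left.left
  exact qc_push_qcqs (etaleInc Xs O hO).1 (fun E hE => (key E hE).1) (fun E hE => (key E hE).2)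
    (qc_restr (etaleInc Xs O hO) hM)

/-- Pairs of a section over the part over the open and a section, to be equalized. -/
def satD {G M : AlgSp.ModEt Xs.obj} (φ : G ⟶ M) : TT Xs O hO G ⊞ M ⟶ TT Xs O hO M :=
  biprod.desc (TTmap Xs O hO φ) (-toTT Xs O hO M)

theorem appS_satD {G M : AlgSp.ModEt Xs.obj} (φ : G ⟶ M) {E : AlgSp.EtOver Xs.obj}
    (y : Sec (TT Xs O hO G) E) (m : Sec M E) :
    appS (satD Xs O hO φ) E (pairS y m) = appS (TTmap Xs O hO φ) E y - appS (toTT Xs O hO M) E m := by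
  rw [satD, appS_desc_pair, sub_eq_add_neg]
  rfl

theorem lift_satD {G M : AlgSp.ModEt Xs.obj} (φ : G ⟶ M) :
    biprod.lift (toTT Xs O hO G) φ ≫ satD Xs O hO φ = 0 := by
  rw [satD, biprod.lift_desc, toTT_naturality, Preadditive.comp_neg, add_neg_cancel]

theorem satD_eq {G M : AlgSp.ModEt Xs.obj} (φ : G ⟶ M) {E : AlgSp.EtOver Xs.obj} (hL : LO O E)
    (z : Sec (TT Xs O hO G ⊞ M) E) (h : appS (satD Xs O hO φ) E z = 0) :
    ∃ x, appS (biprod.lift (toTT Xs O hO G) φ) E x = z := by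
  obtain ⟨x, hx⟩ := (toTT_bijective Xs O hO G hL).2 (appS biprod.fst E z)
  rw [← pairS_fst_snd z, appS_satD, sub_eq_zero, ← hx, ← appS_comp, toTT_naturality, appS_comp] at h
  refine ⟨x, ?_⟩
  rw [← pairS_fst_snd (appS (biprod.lift (toTT Xs O hO G) φ) E x),
    ← pairS_fst_snd z, ← appS_comp, ← appS_comp, biprod.lift_fst, biprod.lift_snd, hx,
    (toTT_bijective Xs O hO M hL).1 h]

include hO in
theorem exists_saturation (hqs : AlgSp.IsQuasiSeparatedSp Xs.obj) (hc : IsCompact O)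
    {G M : AlgSp.ModEt Xs.obj} (hG : QC G) (hM : QC M) (φ : G ⟶ M) :
    ∃ (G' : AlgSp.ModEt Xs.obj) (φ' : G' ⟶ M) (ι : G ⟶ G'), QC G' ∧ ι ≫ φ' = φ ∧
      (∀ E, LO O E → Function.Bijective (appS ι E)) ∧
      ∀ (T : AlgSp.EtOver Xs.obj) (m : Sec M T) {n : ℕ} (Z : Fin n → AlgSp.EtOver Xs.obj) (f : ∀ i, Z i ⟶ T)
        (_ : ∀ i, LO O (Z i))
        (_ : ∀ (W : AlgSp.EtOver Xs.obj) (k : W ⟶ T), Aff Xs.obj W → LO O W → ∀ w : W.obj.left.left,
          ∃ (i : Fin n) (z : (Z i).obj.left.left), (f i).hom.left.left z = k.hom.left.left w)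
        (a : ∀ i, Sec G (Z i)) (_ : ∀ i, appS φ (Z i) (a i) = resS M (f i) m)
        (_ : ∀ i j (W : AlgSp.EtOver Xs.obj) (p : W ⟶ Z i) (q : W ⟶ Z j), Aff Xs.obj W → p ≫ f i = q ≫ f j →
          resS G p (a i) = resS G q (a j)),
        ∃ g : Sec G' T, appS φ' T g = m := by
  refine ⟨kernel (satD Xs O hO φ), kernel.ι _ ≫ biprod.snd, kernel.lift _ _ (lift_satD Xs O hO φ),
    qc_kernel _ (qc_biprod (qc_TT Xs O hO hqs hc hG) hM) (qc_TT Xs O hO hqs hc hM),
    by rw [kernel.lift_ι_assoc, biprod.lift_snd], fun E hL => ⟨fun x y h => ?_, fun w => ?_⟩,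
    fun T m {n} Z f hLZ hs a ha hagree => ?_⟩
  · refine (toTT_bijective Xs O hO G hL).1 ?_
    have e : kernel.lift _ _ (lift_satD Xs O hO φ) ≫ kernel.ι (satD Xs O hO φ) ≫ biprod.fst = toTT Xs O hO G := by
      rw [kernel.lift_ι_assoc, biprod.lift_fst]
    have h' := congrArg (appS (kernel.ι (satD Xs O hO φ) ≫ biprod.fst) E) h
    exact ((congrArg (fun k => appS k E x) e).symm.trans (appS_comp _ _ E x)).trans
      (h'.trans ((appS_comp _ _ E y).symm.trans (congrArg (fun k => appS k E y) e)))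
  · obtain ⟨x, hx⟩ := satD_eq Xs O hO φ hL _ (appS_kernel_ι (satD Xs O hO φ) E w)
    refine ⟨x, injective_app (kernel.ι (satD Xs O hO φ)) E ?_⟩
    exact ((appS_comp _ _ _ _).symm.trans (congrArg (fun k => appS k E x) (kernel.lift_ι _ _ _))).trans hx
  · choose l hl using fun i => exists_toPart Xs O hO (f i) (hLZ i)
    haveI := mono_partHom Xs O hO T
    haveI := isOpenImmersion_partHom Xs O hO T
    have hR : Sieve.ofArrows Z l ∈ AlgSp.etTop Xs.obj (part Xs O hO T) := AlgSp.ofArrows_mem_etTop _ _ fun q => by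
      obtain ⟨W, hW, hqW, -⟩ := exists_isAffineOpen_mem_and_subset
        (X := (part Xs O hO T).obj.left.left) (U := ⊤) (x := q) trivial
      obtain ⟨i, z, hz⟩ := hs (openObj (part Xs O hO T) W) (openObjHom (part Xs O hO T) W ≫ partHom Xs O hO T)
        (aff_openObj _ hW) (LO_down O (openObjHom (part Xs O hO T) W) (LO_part Xs O hO T)) ⟨q, hqW⟩
      refine ⟨i, z, (partHom Xs O hO T).hom.left.left.isOpenEmbedding.injective ?_⟩
      exact (congrArg (fun k : Z i ⟶ T => k.hom.left.left z) (hl i)).trans hz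
    have hc' : ∀ (i j : Fin n) (W : AlgSp.EtOver Xs.obj) (p : W ⟶ Z i) (q : W ⟶ Z j), Aff Xs.obj W →
        p ≫ l i = q ≫ l j → resS G p (a i) = resS G q (a j) := fun i j W p q hW e =>
      hagree i j W p q hW (((congrArg (fun k => p ≫ k) (hl i)).symm.trans (Category.assoc p (l i) _).symm).trans
        ((congrArg (fun k => k ≫ partHom Xs O hO T) e).trans
          ((Category.assoc q (l j) _).trans (congrArg (fun k => q ≫ k) (hl j)))))
    have h0 := fun hy => @exists_glueS S Xs.obj G (part Xs O hO T) (Fin n) Z l hR a hy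
    have h1 := h0 hc'
    obtain ⟨s, hsg⟩ := h1
    have hsm : appS φ (part Xs O hO T) s = resS M (partHom Xs O hO T) m := eqS_of_cover hR fun i => by
      rw [← appS_res, hsg i, ha i, resS_comp, hl i]
    have e0 : appS (satD Xs O hO φ) T (pairS (mkTT Xs O hO s) m) = 0 :=
      (appS_satD Xs O hO φ (mkTT Xs O hO s) m).trans (sub_eq_zero.2
        (rd_inj Xs O hO (((rd_TTmap Xs O hO φ _).trans hsm).trans (rd_toTT Xs O hO m).symm)))
    have h2 := exists_kernel_sec (satD Xs O hO φ) T (pairS (mkTT Xs O hO s) m) e0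
    obtain ⟨g, hg⟩ := h2
    exact ⟨g, ((appS_comp _ _ T g).trans (congrArg (appS biprod.snd T) hg)).trans (appS_snd_pair _ _)⟩

end Groth.Agent.AlgSpFP

end
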