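import Groth.Agent.CohColim.AlgSpQC
import Groth.Agent.CohColim.H0
import Groth.Agent.S14621
import Groth.Agent.AlgSpQC.CohExtBase

/-! Sections of modules over qcqs objects commute with filtered colimits. -/

set_option autoImplicit false
set_option linter.style.haveILetI false
set_option linter.unusedSectionVars false
set_option backward.isDefEq.respectTransparency false
set_option backward.isDefEq.respectTransparency.types false
set_option maxHeartbeats 800000

universe u

open CategoryTheory Limits AlgebraicGeometry Opposite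
open Groth.Agent.AlgSpQC

noncomputable section

namespace Groth.Agent.AlgSpFP

variable {S : Scheme.{u}} (X : AlgSp.Sp S) (Λ : Type (u + 1)) [SmallCategory Λ] [IsFiltered Λ]

theorem preserves_sectionsSet (E : AlgSp.EtOver X) (hE : CohColim.qcqsPropSp X E) :
    PreservesColimitsOfShape Λ (sheafToPresheaf (AlgSp.etTop X) (Type (u + 1)) ⋙
      (evaluation (AlgSp.EtOver X)ᵒᵖ (Type (u + 1))).obj (op E)) := by
  let e := Functor.IsDenseSubsite.sheafEquiv (CohColim.topSpQC X) (AlgSp.etTop X) (CohColim.inclSpQC X)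
    (Type (u + 1))
  let u₀ : CohColim.EtSpQC X := ULiftHom.objUp ⟨E, hE⟩
  haveI := S14621.result (CohColim.topSpQC X) (CohColim.isQCSite_topSpQC X) Λ
  haveI : PreservesColimitsOfShape Λ e.inverse := inferInstance
  exact preservesColimitsOfShape_of_natIso (NatIso.ofComponents (fun F => Iso.refl _)
    (fun f => by ext x; rfl) :
    e.inverse ⋙ sheafToPresheaf (CohColim.topSpQC X) (Type (u + 1)) ⋙
      (evaluation (CohColim.EtSpQC X)ᵒᵖ (Type (u + 1))).obj (op u₀) ≅
      sheafToPresheaf (AlgSp.etTop X) (Type (u + 1)) ⋙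
        (evaluation (AlgSp.EtOver X)ᵒᵖ (Type (u + 1))).obj (op E))

theorem preserves_sectionsAb (E : AlgSp.EtOver X) (hE : CohColim.qcqsPropSp X E) :
    PreservesColimitsOfShape Λ (sheafToPresheaf (AlgSp.etTop X) AddCommGrpCat.{u + 1} ⋙
      (evaluation (AlgSp.EtOver X)ᵒᵖ AddCommGrpCat.{u + 1}).obj (op E)) := by
  haveI : PreservesColimitsOfShape Λ (sheafCompose (AlgSp.etTop X) (forget AddCommGrpCat.{u + 1})) := by
    let e := Functor.IsDenseSubsite.sheafEquiv (CohColim.topSpQC X) (AlgSp.etTop X) (CohColim.inclSpQC X)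
      AddCommGrpCat.{u + 1}
    let e' := Functor.IsDenseSubsite.sheafEquiv (CohColim.topSpQC X) (AlgSp.etTop X) (CohColim.inclSpQC X)
      (Type (u + 1))
    haveI := CohColim.preservesColimitsOfShape_forgetSh (CohColim.topSpQC X) Λ
    haveI : PreservesColimitsOfShape Λ (sheafCompose (AlgSp.etTop X)
        (forget AddCommGrpCat.{u + 1}) ⋙ e'.inverse) :=
      preservesColimitsOfShape_of_natIso (NatIso.ofComponents (fun F => Iso.refl _)
        (fun f => by ext; rfl) :
        e.inverse ⋙ sheafCompose (CohColim.topSpQC X) (forget AddCommGrpCat.{u + 1}) ≅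
          sheafCompose (AlgSp.etTop X) (forget AddCommGrpCat.{u + 1}) ⋙ e'.inverse)
    exact preservesColimitsOfShape_of_reflects_of_preserves _ e'.inverse
  haveI := preserves_sectionsSet X Λ E hE
  haveI : PreservesColimitsOfShape Λ ((sheafToPresheaf (AlgSp.etTop X) AddCommGrpCat.{u + 1} ⋙
      (evaluation (AlgSp.EtOver X)ᵒᵖ AddCommGrpCat.{u + 1}).obj (op E)) ⋙ forget AddCommGrpCat.{u + 1}) :=
    preservesColimitsOfShape_of_natIso (NatIso.ofComponents (fun F => Iso.refl _)
      (fun f => by ext; rfl) :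
      sheafCompose (AlgSp.etTop X) (forget AddCommGrpCat.{u + 1}) ⋙
        sheafToPresheaf (AlgSp.etTop X) (Type (u + 1)) ⋙
          (evaluation (AlgSp.EtOver X)ᵒᵖ (Type (u + 1))).obj (op E) ≅
        (sheafToPresheaf (AlgSp.etTop X) AddCommGrpCat.{u + 1} ⋙
          (evaluation (AlgSp.EtOver X)ᵒᵖ AddCommGrpCat.{u + 1}).obj (op E)) ⋙ forget AddCommGrpCat.{u + 1})
  haveI : ReflectsColimitsOfShape Λ (forget AddCommGrpCat.{u + 1}) :=
    reflectsColimitsOfShape_of_reflectsIsomorphisms
  exact preservesColimitsOfShape_of_reflects_of_preserves _ (forget AddCommGrpCat.{u + 1})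

theorem preserves_toSheaf :
    PreservesColimitsOfShape Λ (SheafOfModules.toSheaf.{u + 1} (AlgSp.OEtRing X)) where
  preservesColimit {F} := by
    let R := AlgSp.OEtRing X
    let G := PresheafOfModules.sheafification.{u + 1} (𝟙 R.obj)
    haveI : PreservesColimitsOfShape Λ G :=
      (PresheafOfModules.sheafificationAdjunction (𝟙 R.obj)).leftAdjoint_preservesColimits.1
    haveI : PreservesColimitsOfShape Λ (G ⋙ SheafOfModules.toSheaf R) :=
      inferInstanceAs (PreservesColimitsOfShape Λ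
        (PresheafOfModules.toPresheaf R.obj ⋙ presheafToSheaf (AlgSp.etTop X) AddCommGrpCat.{u + 1}))
    let e : (F ⋙ SheafOfModules.forget R) ⋙ G ≅ F :=
      Functor.isoWhiskerLeft F
        (asIso (PresheafOfModules.sheafificationAdjunction (𝟙 R.obj)).counit)
    haveI : PreservesColimit ((F ⋙ SheafOfModules.forget R) ⋙ G) (SheafOfModules.toSheaf.{u + 1} R) :=
      preservesColimit_of_preserves_colimit_cocone
        (isColimitOfPreserves G (colimit.isColimit (F ⋙ SheafOfModules.forget R)))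
        (isColimitOfPreserves (G ⋙ SheafOfModules.toSheaf R)
          (colimit.isColimit (F ⋙ SheafOfModules.forget R)))
    exact preservesColimit_of_iso_diagram _ e

variable {X} {Λ}

/-- Sections over a qcqs object as an additive group. -/
abbrev secAb (E : AlgSp.EtOver X) : AlgSp.ModEt X ⥤ AddCommGrpCat.{u + 1} :=
  SheafOfModules.toSheaf.{u + 1} (AlgSp.OEtRing X) ⋙ sheafToPresheaf (AlgSp.etTop X) AddCommGrpCat.{u + 1} ⋙
    (evaluation (AlgSp.EtOver X)ᵒᵖ AddCommGrpCat.{u + 1}).obj (op E)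

theorem preserves_secAb (E : AlgSp.EtOver X) (hE : CohColim.qcqsPropSp X E) :
    PreservesColimitsOfShape Λ (secAb E) := by
  haveI := preserves_toSheaf X Λ
  haveI := preserves_sectionsAb X Λ E hE
  exact inferInstanceAs (PreservesColimitsOfShape Λ (_ ⋙ _))

theorem qcqsPropSp_of_aff {E : AlgSp.EtOver X} (hE : Aff X E) : CohColim.qcqsPropSp X E := by
  haveI : IsAffine E.obj.left.left := hE
  exact ⟨inferInstance, inferInstance⟩

theorem sec_jointly_surjective {D : Λ ⥤ AlgSp.ModEt X} {c : Cocone D} (hc : IsColimit c) {E : AlgSp.EtOver X}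
    (hE : CohColim.qcqsPropSp X E) (x : Sec c.pt E) : ∃ (i : Λ) (y : Sec (D.obj i) E), appS (c.ι.app i) E y = x := by
  haveI := preserves_secAb (Λ := Λ) E hE
  obtain ⟨i, y, hy⟩ := Concrete.isColimit_exists_rep (D ⋙ secAb E) (isColimitOfPreserves (secAb E) hc) x
  exact ⟨i, y, hy⟩

theorem sec_eq_iff {D : Λ ⥤ AlgSp.ModEt X} {c : Cocone D} (hc : IsColimit c) {E : AlgSp.EtOver X}
    (hE : CohColim.qcqsPropSp X E) {i : Λ} (a b : Sec (D.obj i) E)
    (h : appS (c.ι.app i) E a = appS (c.ι.app i) E b) :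
    ∃ (j : Λ) (f : i ⟶ j), appS (D.map f) E a = appS (D.map f) E b := by
  haveI := preserves_secAb (Λ := Λ) E hE
  obtain ⟨j, f, g, hfg⟩ := Concrete.isColimit_exists_of_rep_eq (D ⋙ secAb E) (isColimitOfPreserves (secAb E) hc)
    (i := i) (j := i) a b h
  obtain ⟨k, h', hk⟩ : ∃ (k : Λ) (h : j ⟶ k), f ≫ h = g ≫ h :=
    ⟨IsFiltered.coeq f g, IsFiltered.coeqHom f g, IsFiltered.coeq_condition f g⟩
  refine ⟨k, f ≫ h', ?_⟩
  have e := congrArg (appS (D.map h') E) hfg
  rw [D.map_comp]
  refine (appS_comp _ _ E a).trans (e.trans ((appS_comp _ _ E b).symm.trans ?_))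
  rw [← D.map_comp, ← hk, D.map_comp]

end Groth.Agent.AlgSpFP

end
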