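import Groth.Agent.AlgSpFP.Attach
import Groth.Agent.AlgSpFP.Sat
import Groth.Agent.AlgSpFT.Sub

/-! Enlarging the open over which prescribed sections come from a finitely presented module. -/

set_option autoImplicit false
set_option linter.style.haveILetI false
set_option linter.unusedSectionVars false
set_option backward.isDefEq.respectTransparency false
set_option backward.isDefEq.respectTransparency.types false
set_option maxHeartbeats 800000

universe u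

open CategoryTheory Limits AlgebraicGeometry Opposite
open Groth.Agent.AlgSpQC Groth.Agent.AlgSpFT

noncomputable section

namespace Groth.Agent.AlgSpFP

variable {S : Scheme.{u}} [QuasiSeparatedSpace ↥S]

theorem range_le_of_res {X : AlgSp.Sp S} {M G : AlgSp.ModEt X} (φ : G ⟶ M) {E E' : AlgSp.EtOver X} (g : E' ⟶ E)
    {x : Sec M E} (hx : x ∈ LinearMap.range (appS φ E)) : resS M g x ∈ LinearMap.range (appS φ E') := by
  obtain ⟨y, rfl⟩ := hx
  exact ⟨resS G g y, appS_res φ g y⟩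

theorem mem_range_of_cover {X : AlgSp.Sp S} {M G : AlgSp.ModEt X} (φ : G ⟶ M) (hG : QC G) (hM : QC M)
    {E : AlgSp.EtOver X} (hE : Aff X E) (x : Sec M E)
    (h : ∀ e : E.obj.left.left, ∃ (W : AlgSp.EtOver X) (k : W ⟶ E), Aff X W ∧ e ∈ Set.range k.hom.left.left ∧
      resS M k x ∈ LinearMap.range (appS φ W)) : x ∈ LinearMap.range (appS φ E) := by
  choose W k hW hk hx using h
  haveI := compactSpace_aff hE
  obtain ⟨t, ht⟩ := isCompact_univ.elim_finite_subcover (fun e => Set.range (k e).hom.left.left)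
    (fun e => haveI := AlgSp.EtOver.etale_left (k e); (k e).hom.left.left.isOpenMap.isOpen_range)
    (fun e _ => Set.mem_iUnion.2 ⟨e, hk e⟩)
  refine mem_of_span_cover hM hE (n := t.card) (fun i => k (t.equivFin.symm i)) (fun i => hW _) (fun e => ?_) _ x
    fun i => ?_
  · obtain ⟨a, ha, z, hz⟩ := Set.mem_iUnion₂.1 (ht (Set.mem_univ e))
    obtain ⟨i, rfl⟩ : ∃ i, (t.equivFin.symm i : E.obj.left.left) = a :=
      ⟨t.equivFin ⟨a, ha⟩, by rw [Equiv.symm_apply_apply]⟩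
    exact ⟨i, z, hz⟩
  · obtain ⟨a, ha⟩ := hx (t.equivFin.symm i)
    have hm : a ∈ sp G (k (t.equivFin.symm i)) (Set.univ : Set (Sec G E)) :=
      (sp_top_of_qc hG (k (t.equivFin.symm i)) hE (hW _)).symm ▸ Submodule.mem_top
    have hm' := Submodule.mem_map_of_mem (f := appS φ _) hm
    rw [Submodule.map_span, ha] at hm'
    refine Submodule.span_mono ?_ hm'
    rintro _ ⟨_, ⟨y, -, rfl⟩, rfl⟩
    exact ⟨appS φ E y, ⟨y, rfl⟩, (appS_res φ _ y).symm⟩

theorem fp_of_bijective {X : AlgSp.Sp S} {M G : AlgSp.ModEt X} (φ : G ⟶ M) (E : AlgSp.EtOver X)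
    (hb : Function.Bijective (appS φ E))
    (h : Module.FinitePresentation ((AlgSp.OEt X).obj.obj (op E)) (Sec G E)) :
    Module.FinitePresentation ((AlgSp.OEt X).obj.obj (op E)) (Sec M E) :=
  @Module.FinitePresentation.of_equiv _ (Sec G E) (Sec M E) _ _ _ _ _ (LinearEquiv.ofBijective (appS φ E) hb) h

theorem fp_of_bijective' {X : AlgSp.Sp S} {M G : AlgSp.ModEt X} (φ : G ⟶ M) (E : AlgSp.EtOver X)
    (hb : Function.Bijective (appS φ E))
    (h : Module.FinitePresentation ((AlgSp.OEt X).obj.obj (op E)) (Sec M E)) :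
    Module.FinitePresentation ((AlgSp.OEt X).obj.obj (op E)) (Sec G E) :=
  @Module.FinitePresentation.of_equiv _ (Sec M E) (Sec G E) _ _ _ _ _ (LinearEquiv.ofBijective (appS φ E) hb).symm h

variable {Xs : AlgSp.Space S}

/-- Prescribed sections come from a module finitely presented over an open. -/
def GenOn (M : AlgSp.ModEt Xs.obj) (O : Set (AlgSp.Points Xs.obj)) : Prop :=
  ∀ R : List (Req M), ∃ (G : AlgSp.ModEt Xs.obj) (φ : G ⟶ M), QC G ∧ FPOn G (LO O) ∧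
    ∀ r ∈ R, ∀ (Z : AlgSp.EtOver Xs.obj) (k : Z ⟶ r.1.1), Aff Xs.obj Z → LO O Z →
      resS M k r.2 ∈ LinearMap.range (appS φ Z)

theorem exists_split {M : AlgSp.ModEt Xs.obj} (hqs : AlgSp.IsQuasiSeparatedSp Xs.obj) (hM : QC M)
    {O O' : Set (AlgSp.Points Xs.obj)} (hO : IsOpen O) (hO' : IsOpen O') (hOc' : IsCompact O')
    (T : AlgSp.EtOver Xs.obj) (hT : Aff Xs.obj T) (hu : O' = O ∪ Set.range (AlgSp.Points.ofPt T.obj.hom)) (r : Req M) :
    ∃ F : Finset (Sec M T), ∀ (Z : AlgSp.EtOver Xs.obj) (k : Z ⟶ r.1.1), Aff Xs.obj Z → LO O' Z →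
      ∀ z : Z.obj.left.left, ∃ (W : AlgSp.EtOver Xs.obj) (h : W ⟶ Z), Aff Xs.obj W ∧ z ∈ Set.range h.hom.left.left ∧
        (LO O W ∨ ∃ l : W ⟶ T, resS M (h ≫ k) r.2 ∈ sp M l (F : Set (Sec M T))) := by
  classical
  obtain ⟨n, Z, f, hZ, hLZ, hs⟩ := hasLCover_LO hqs r.1.2 hO' hOc'
  choose m V v hV hP hsV using fun i => cover_step O hO T (hZ i) (fun e => hu ▸ hLZ i e)
  have hF : ∀ i j, ∃ F : Finset (Sec M T),
      LO O (V i j) ∨ ∃ l : V i j ⟶ T, resS M (v i j ≫ f i) r.2 ∈ sp M l (F : Set (Sec M T)) := by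
    intro i j
    rcases hP i j with h | ⟨⟨l⟩⟩
    · exact ⟨∅, Or.inl h⟩
    · obtain ⟨F, -, hF⟩ := exists_finset_of_fg_le l (P := (⊤ : Submodule _ (Sec M T)))
        (Submodule.fg_span (Set.finite_singleton (resS M (v i j ≫ f i) r.2)))
        ((Submodule.span_singleton_le_iff_mem _ _).2 ((sp_top_of_qc hM l hT (hV i j)).symm ▸ Submodule.mem_top))
      exact ⟨F, Or.inr ⟨l, hF (Submodule.mem_span_singleton_self _)⟩⟩
  choose F hF using hF
  refine ⟨Finset.univ.biUnion fun i => Finset.univ.biUnion (F i), fun Z' k hZ' hL z => ?_⟩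
  obtain ⟨i, y, hy⟩ := hs Z' k hZ' hL z
  obtain ⟨j, y', hy'⟩ := hsV i y
  obtain ⟨W, h, h', hW, e, hpb, -⟩ := (affSite Xs.obj).exists_fibre k (v i j ≫ f i) r.1.2 hZ' (hV i j)
  obtain ⟨w, hw, -⟩ := Scheme.exists_preimage_of_isPullback (hpb.map (AlgSp.EtOver.toScheme Xs.obj)) z y' (by
    show k.hom.left.left z = (f i).hom.left.left ((v i j).hom.left.left y')
    rw [hy', hy])
  refine ⟨W, h, hW, ⟨w, hw⟩, ?_⟩
  rcases hF i j with hLV | ⟨l, hl⟩
  · exact Or.inl (LO_down O h' hLV)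
  · refine Or.inr ⟨h' ≫ l, ?_⟩
    have h1 := sp_res l h' hl
    have e1 : rs M h' (resS M (v i j ≫ f i) r.2) = resS M (h ≫ k) r.2 := by
      rw [e]
      exact resS_comp M _ _ r.2
    rw [e1] at h1
    refine Submodule.span_mono (Set.image_mono fun x hx => ?_) h1
    exact Finset.mem_biUnion.2 ⟨i, Finset.mem_univ _, Finset.mem_biUnion.2 ⟨j, Finset.mem_univ _, hx⟩⟩

/-- The compatible family of lifts over the overlap, after a quotient. -/
theorem exists_sat_lifts (hqc : AlgSp.IsQuasiCompactSp Xs.obj) (hqs : AlgSp.IsQuasiSeparatedSp Xs.obj)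
    {G M : AlgSp.ModEt Xs.obj} (hG : QC G) (hM : QC M) (φ : G ⟶ M)
    {O : Set (AlgSp.Points Xs.obj)} (hO : IsOpen O) (hOc : IsCompact O) (hFP : FPOn G (LO O))
    (T : AlgSp.EtOver Xs.obj) (hT : Aff Xs.obj T) (F : Finset (Sec M T))
    (hF : ∀ m ∈ F, ∀ (Z : AlgSp.EtOver Xs.obj) (k : Z ⟶ T), Aff Xs.obj Z → LO O Z →
      resS M k m ∈ LinearMap.range (appS φ Z)) :
    ∃ (G₂ : AlgSp.ModEt Xs.obj) (φ₂ : G₂ ⟶ M), QC G₂ ∧ FPOn G₂ (LO O) ∧
      (∀ Z, Aff Xs.obj Z → LO O Z → LinearMap.range (appS φ Z) ≤ LinearMap.range (appS φ₂ Z)) ∧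
      ∀ m ∈ F, m ∈ LinearMap.range (appS φ₂ T) := by
  classical
  obtain ⟨n, Z, f, hZ, hLZ, hs⟩ := hasLCover_LO hqs hT hO hOc
  have ha0 : ∀ (m : {m // m ∈ F}) (i : Fin n), ∃ a : Sec G (Z i), appS φ (Z i) a = resS M (f i) m.1 := fun m i =>
    hF m.1 m.2 (Z i) (f i) (hZ i) (hLZ i)
  choose a ha using ha0
  choose W h h' hW e hpb hpo using fun i j => (affSite Xs.obj).exists_fibre (f i) (f j) hT (hZ i) (hZ j)
  let D : {m // m ∈ F} × Fin n × Fin n → Req G := fun t =>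
    ⟨⟨W t.2.1 t.2.2, hW _ _⟩, resS G (h t.2.1 t.2.2) (a t.1 t.2.1) - resS G (h' t.2.1 t.2.2) (a t.1 t.2.2)⟩
  have hq := exists_quot Xs hqc hqs hG hM φ ((Finset.univ : Finset ({m // m ∈ F} × Fin n × Fin n)).toList.map D)
    (fun r hr => by
      obtain ⟨⟨m, i, j⟩, -, rfl⟩ := List.mem_map.1 hr
      refine (map_sub (appS φ (W i j)) _ _).trans (sub_eq_zero.2 ?_)
      rw [appS_res, appS_res, ha, ha, resS_comp, resS_comp, e i j])
  obtain ⟨G₁, π, φ₁, hG₁, hπφ, hπs, hπD, hπFP⟩ := hq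
  have hsat := exists_saturation Xs O hO hqs hOc hG₁ hM φ₁
  obtain ⟨G₂, φ₂, ι, hG₂, hιφ, hιb, hglue⟩ := hsat
  refine ⟨G₂, φ₂, hG₂, fun E hE hL => fp_of_bijective ι E (hιb E hL) (hπFP _ hFP E hE hL), fun E hE hL => ?_,
    fun m hm => ?_⟩
  · rintro _ ⟨x, rfl⟩
    refine ⟨appS ι E (appS π E x), ?_⟩
    rw [← appS_comp, ← appS_comp, hιφ, hπφ]
  · refine hglue T m Z f hLZ hs (fun i => appS π (Z i) (a ⟨m, hm⟩ i)) (fun i => ?_) fun i j A p q hA hpq => ?_
    · rw [← appS_comp, hπφ, ha]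
    · have hl : (hpb i j).lift p q hpq ≫ h i j = p := (hpb i j).lift_fst _ _ _
      have hr : (hpb i j).lift p q hpq ≫ h' i j = q := (hpb i j).lift_snd _ _ _
      have h0 := hπD (D (⟨m, hm⟩, i, j)) (List.mem_map.2 ⟨(⟨m, hm⟩, i, j), Finset.mem_toList.2 (Finset.mem_univ _), rfl⟩)
      have h1 : resS G₁ (h i j) (appS π (Z i) (a ⟨m, hm⟩ i)) = resS G₁ (h' i j) (appS π (Z j) (a ⟨m, hm⟩ j)) := by
        rw [← appS_res, ← appS_res]
        exact sub_eq_zero.1 ((map_sub (appS π (W i j)) _ _).symm.trans h0)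
      have h2 := congrArg (resS G₁ ((hpb i j).lift p q hpq)) h1
      rw [resS_comp, resS_comp, hl, hr] at h2
      exact h2

/-- The step across an elementary distinguished square. -/
theorem genOn_step {M : AlgSp.ModEt Xs.obj} (hqc : AlgSp.IsQuasiCompactSp Xs.obj)
    (hqs : AlgSp.IsQuasiSeparatedSp Xs.obj) (hM : QC M)
    {O O' : Set (AlgSp.Points Xs.obj)} (hO : IsOpen O) (hOc : IsCompact O) (hO' : IsOpen O') (hOc' : IsCompact O')
    {V : Over S} (hV : IsAffine V.left) {p : (AlgSp.yon S).obj V ⟶ Xs.obj}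
    (hp : AlgSp.RepWith @AlgebraicGeometry.Etale p)
    (hu : O' = O ∪ Set.range (AlgSp.Points.ofPt (chartObj Xs hp).obj.hom))
    (heq : ∀ (Z : AlgSp.EtOver Xs.obj), Aff Xs.obj Z → ∀ (k₁ k₂ : Z ⟶ chartObj Xs hp),
      ∃ (n : ℕ) (U : Fin n → AlgSp.EtOver Xs.obj) (f : ∀ i, U i ⟶ Z), (∀ i, Aff Xs.obj (U i)) ∧
        (∀ i, LO O (U i) ∨ f i ≫ k₁ = f i ≫ k₂) ∧
        ∀ e, ∃ (i : Fin n) (v : (U i).obj.left.left), (f i).hom.left.left v = e)
    (hP : GenOn M O) : GenOn M O' := by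
  classical
  intro R
  let T := chartObj Xs hp
  have hT : Aff Xs.obj T := hV
  choose FR hFR using fun r : Req M => exists_split hqs hM hO hO' hOc' T hT hu r
  let F : Finset (Sec M T) := (R.flatMap fun r => (FR r).toList).toFinset
  obtain ⟨G, φ, hG, hFP, hmem⟩ := hP (R ++ F.toList.map fun m => (⟨⟨T, hT⟩, m⟩ : Req M))
  have hsl := exists_sat_lifts hqc hqs hG hM φ hO hOc hFP T hT F fun m hm Z k hZ hL =>
    hmem ⟨⟨T, hT⟩, m⟩ (List.mem_append.2 (Or.inr (List.mem_map.2 ⟨m, Finset.mem_toList.2 hm, rfl⟩))) Z k hZ hL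
  obtain ⟨G₂, φ₂, hG₂, hFP₂, hle₂, hF₂⟩ := hsl
  choose g hg using hF₂
  obtain ⟨n, Z, f, hZ, hLZ, hs⟩ := hasLCover_LO hqs hT hO hOc
  let Z' : Fin n → AlgSp.EtOver ((AlgSp.yon S).obj V) := fun i =>
    AlgSp.EtOver.mk ((AlgSp.yon S).map (f i).hom.left ≫ (Tid V).obj.hom)
      (ASp.repWith_comp (P := @AlgebraicGeometry.Etale)
        ((AlgSp.repWith_yon_map_iff _ _).2 (AlgSp.EtOver.etale_left (f i))) (Tid V).property)
  have hLZ' : ∀ i, LO O ((compE hp).obj (Z' i)) := fun i z => by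
    have e : ((compE hp).obj (Z' i)).obj.hom = (Z i).obj.hom :=
      (Category.assoc _ _ _).trans (AlgSp.EtOver.w (f i))
    rw [e]
    exact hLZ i z
  have hfrom : ∀ i, (isTerminalTid V).from (Z' i) = (AlgSp.EtOver.homMk (E := Z' i) (E' := Tid V) (f i).hom.left rfl) := fun i =>
    (isTerminalTid V).hom_ext _ _
  let G₀ : Finset (Sec ((restrMod hp).obj G₂) (Tid V)) := F.attach.image fun m => toRestr hp (Tid V) (g m.1 m.2)
  have hch := exists_chart hV (qc_restr hp hG₂) Z' (fun i => hZ i)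
    (fun i => hFP₂ ((compE hp).obj (Z' i)) (hZ i) (hLZ' i)) G₀
  obtain ⟨N₁, ν, hN₁, hN₁FP, hG₀, hνb⟩ := hch
  have hν : ∀ A, Aff _ A → LO O ((compE hp).obj A) → Function.Bijective (appS ν A) := fun A hA hL =>
    hνb A hA fun w => by
      obtain ⟨i, z, hz⟩ := hs ((compE hp).obj A) ((compE hp).map ((isTerminalTid V).from A)) hA hL w
      refine ⟨i, z, ?_⟩
      rw [hfrom i]
      exact hz
  have hat := exists_attach Xs O hp hV ν hν hqs hG₂ hN₁ heq (hN₁FP (Tid V) hV trivial)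
  obtain ⟨G', ψ, hG', hψb, hψFP, hψr⟩ := hat
  refine ⟨G', ψ ≫ φ₂, hG', fun E hE hL => ?_, fun r hr A k hA hL => ?_⟩
  · obtain ⟨m, W, w, hW, hLW, hsW⟩ := cover_step O hO T hE (fun e => hu ▸ hL e)
    refine finitePresentation_sec_local hG' hE fun e => ?_
    obtain ⟨i, y, hy⟩ := hsW e
    refine ⟨W i, w i, hW i, ⟨y, hy⟩, ?_⟩
    rcases hLW i with h | ⟨⟨l⟩⟩
    · exact fp_of_bijective' ψ (W i) (hψb _ h) (hFP₂ _ (hW i) h)
    · haveI := hψFP
      exact finitePresentation_sec_map hG' l hT (hW i)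
  · refine mem_range_of_cover (ψ ≫ φ₂) hG' hM hA _ fun z => ?_
    obtain ⟨W, h, hW, hz, hP'⟩ := hFR r A k hA hL z
    refine ⟨W, h, hW, hz, ?_⟩
    rw [resS_comp]
    rcases hP' with hLW | ⟨l, hl⟩
    · obtain ⟨x, hx⟩ := hle₂ W hW hLW (hmem r (List.mem_append.2 (Or.inl hr)) W (h ≫ k) hW hLW)
      obtain ⟨y, rfl⟩ := (hψb W hLW).2 x
      exact ⟨y, (appS_comp _ _ W y).trans hx⟩
    · refine Submodule.span_le.2 ?_ hl
      rintro _ ⟨m, hm, rfl⟩
      have hmF : m ∈ F := List.mem_toFinset.2 (List.mem_flatMap.2 ⟨r, hr, Finset.mem_toList.2 hm⟩)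
      refine range_le_of_res (ψ ≫ φ₂) l ?_
      obtain ⟨b, hb⟩ := hG₀ (toRestr hp (Tid V) (g m hmF)) (Finset.mem_image.2 ⟨⟨m, hmF⟩, Finset.mem_attach _ _, rfl⟩)
      obtain ⟨y, hy⟩ := hψr b
      refine ⟨y, ((appS_comp _ _ T y).trans (congrArg (appS φ₂ T) (hy.trans ?_))).trans (hg m hmF)⟩
      exact congrArg (fromRestr hp (Tid V)) hb

end Groth.Agent.AlgSpFP

end
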